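import Mathlib.AlgebraicGeometry.Morphisms.FinitePresentation
import Mathlib.AlgebraicGeometry.Morphisms.Finite
import Mathlib.AlgebraicGeometry.Noetherian
import Mathlib.AlgebraicGeometry.AlgClosed.Basic
import Mathlib.FieldTheory.IsAlgClosed.AlgebraicClosure
import Mathlib.CategoryTheory.Monoidal.Cartesian.Over
import Mathlib.Topology.JacobsonSpace
import Mathlib.Topology.Constructible

/-! Points with values in an algebraic closure of schemes locally of finite type over a field. -/

set_option autoImplicit false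
universe u
open CategoryTheory MonoidalCategory CartesianMonoidalCategory AlgebraicGeometry Limits Topology

namespace K403.GeomPts

/-- A constructible subset is a neighbourhood-wise union of locally closed subsets. -/
theorem exists_isLocallyClosed_of_isConstructible {T : Type*} [TopologicalSpace T] {s : Set T}
    (hs : IsConstructible s) {x : T} (hx : x ∈ s) :
    ∃ Z : Set T, IsLocallyClosed Z ∧ x ∈ Z ∧ Z ⊆ s := by
  induction s, hs using BooleanSubalgebra.closure_sdiff_sup_induction with
  | isSublattice =>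
    exact ⟨fun s hs t ht ↦ ⟨hs.1.union ht.1, hs.2.union ht.2⟩,
      fun s hs t ht ↦ ⟨hs.1.inter ht.1, hs.2.inter_isOpen ht.2 ht.1⟩⟩
  | bot_mem => exact ⟨isOpen_empty, .empty⟩
  | top_mem => exact ⟨isOpen_univ, .univ⟩
  | sdiff U hU V hV =>
    refine ⟨U \ V, ?_, hx, subset_rfl⟩
    rw [Set.sdiff_eq]
    exact hU.1.isLocallyClosed.inter hV.1.isClosed_compl.isLocallyClosed
  | sup s _ t _ hs' ht' =>
    rcases hx with hx | hx
    · obtain ⟨Z, h1, h2, h3⟩ := hs' hx
      exact ⟨Z, h1, h2, h3.trans Set.subset_union_left⟩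
    · obtain ⟨Z, h1, h2, h3⟩ := ht' hx
      exact ⟨Z, h1, h2, h3.trans Set.subset_union_right⟩

theorem exists_isLocallyClosed_of_isLocallyConstructible {T : Type*} [TopologicalSpace T]
    {s : Set T} (hs : IsLocallyConstructible s) {x : T} (hx : x ∈ s) :
    ∃ Z : Set T, IsLocallyClosed Z ∧ x ∈ Z ∧ Z ⊆ s := by
  obtain ⟨U, hxU, hU, hUs⟩ := hs x
  have hxU' : x ∈ U := mem_of_mem_nhds hxU
  obtain ⟨Z, h1, h2, h3⟩ := exists_isLocallyClosed_of_isConstructible hUs
    (x := ⟨x, hxU'⟩) hx
  refine ⟨Subtype.val '' Z, ?_, ⟨_, h2, rfl⟩, ?_⟩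
  · exact h1.image hU.isOpenEmbedding_subtypeVal.isInducing
      (by rw [Subtype.range_coe]; exact hU.isLocallyClosed)
  · rintro _ ⟨z, hz, rfl⟩
    exact h3 hz

/-- A nonempty locally constructible subset of a Jacobson space contains a closed point. -/
theorem exists_isClosed_of_isLocallyConstructible {T : Type*} [TopologicalSpace T] [JacobsonSpace T]
    {s : Set T} (hs : IsLocallyConstructible s) (hne : s.Nonempty) : ∃ x ∈ s, IsClosed ({x} : Set T) := by
  obtain ⟨x, hx⟩ := hne
  obtain ⟨Z, h1, h2, h3⟩ := exists_isLocallyClosed_of_isLocallyConstructible hs hx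
  obtain ⟨y, hy, hy'⟩ := nonempty_inter_closedPoints ⟨x, h2⟩ h1
  exact ⟨y, h3 hy, hy'⟩

variable (k : Type u) [Field k] (K : Type u) [Field K] [Algebra k K]

/-- `Spec K` over `Spec k`. -/
noncomputable abbrev KK : Over (Spec (CommRingCat.of k)) :=
  Over.mk (Spec.map (CommRingCat.ofHom (algebraMap k K)))

instance : Subsingleton (KK k K).left := inferInstanceAs (Subsingleton (PrimeSpectrum K))

/-- the point of `Spec K` -/
noncomputable abbrev pt0 : (KK k K).left := IsLocalRing.closedPoint K

variable {k} [IsAlgClosed K]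

theorem exists_pt_of_isClosed {X : Over (Spec (CommRingCat.of k))} [LocallyOfFiniteType X.hom] (x : X.left)
    (hx : IsClosed ({x} : Set X.left)) : ∃ p : KK k K ⟶ X, ∀ a, p.left a = x := by
  have : JacobsonSpace X.left := LocallyOfFiniteType.jacobsonSpace X.hom
  have h1 : LocallyOfFiniteType (X.left.fromSpecResidueField x) := isClosed_singleton_iff_locallyOfFiniteType.mp hx
  obtain ⟨φ, hφ⟩ : ∃ φ : CommRingCat.of k ⟶ X.left.residueField x, Spec.map φ = X.left.fromSpecResidueField x ≫ X.hom :=
    ⟨Spec.preimage _, Spec.map_preimage _⟩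
  have h2 : LocallyOfFiniteType (Spec.map φ) := by rw [hφ]; infer_instance
  have h3 : φ.hom.FiniteType := (HasRingHomProperty.Spec_iff (P := @LocallyOfFiniteType)).mp h2
  let _ : Algebra k (X.left.residueField x) := φ.hom.toAlgebra
  have h4 : Algebra.FiniteType k (X.left.residueField x) := h3
  have h5 : Module.Finite k (X.left.residueField x) := finite_of_finite_type_of_isJacobsonRing k _
  let σ : (X.left.residueField x) →ₐ[k] K := IsAlgClosed.lift
  refine ⟨Over.homMk (Spec.map (CommRingCat.ofHom σ.toRingHom) ≫ X.left.fromSpecResidueField x) ?_, ?_⟩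
  · rw [Category.assoc, ← hφ, ← Spec.map_comp]
    change Spec.map _ = Spec.map _
    congr 1
    ext z
    exact σ.commutes z
  · intro a
    change (Spec.map (CommRingCat.ofHom σ.toRingHom) ≫ X.left.fromSpecResidueField x) a = x
    rw [Scheme.Hom.comp_apply]
    exact Scheme.fromSpecResidueField_apply _ _

/-- lifting `K`-points along `f` when the point is in the range. -/
theorem exists_lift {X Y : Over (Spec (CommRingCat.of k))} [LocallyOfFiniteType X.hom] (f : X ⟶ Y)
    (y : KK k K ⟶ Y) (x : X.left) (h : f.left x = y.left (pt0 k K)) : ∃ p : KK k K ⟶ X, p ≫ f = y := by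
  have hf : LocallyOfFiniteType f.left := by
    have : LocallyOfFiniteType (f.left ≫ Y.hom) := by rw [Over.w]; infer_instance
    exact locallyOfFiniteType_of_comp f.left Y.hom
  obtain ⟨z, hz1, hz2⟩ := Scheme.Pullback.exists_preimage_pullback x (pt0 k K) h
  have : LocallyOfFiniteType (pullback.snd f.left y.left) := inferInstance
  have hJ : JacobsonSpace (pullback f.left y.left : Scheme.{u}) :=
    LocallyOfFiniteType.jacobsonSpace (Y := Spec (CommRingCat.of K)) (pullback.snd f.left y.left)
  obtain ⟨w, -, hw⟩ := nonempty_inter_closedPoints (X := (pullback f.left y.left : Scheme.{u})) (Z := Set.univ)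
    ⟨z, trivial⟩ isOpen_univ.isLocallyClosed
  let s := pointOfClosedPoint (K := K) (pullback.snd f.left y.left : _ ⟶ Spec (CommRingCat.of K)) w hw
  have hs : s ≫ pullback.snd f.left y.left = 𝟙 _ := pointOfClosedPoint_comp _ _ _
  refine ⟨Over.homMk (s ≫ pullback.fst f.left y.left) ?_, ?_⟩
  · rw [Category.assoc, ← Over.w f, ← Category.assoc (pullback.fst _ _), pullback.condition, Category.assoc,
      reassoc_of% hs, Over.w]
  · ext1
    change (s ≫ pullback.fst f.left y.left) ≫ f.left = y.left
    rw [Category.assoc, pullback.condition, reassoc_of% hs]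

theorem exists_lift_of_surjective {X Y : Over (Spec (CommRingCat.of k))} [LocallyOfFiniteType X.hom] (f : X ⟶ Y)
    [Surjective f.left] (y : KK k K ⟶ Y) : ∃ p : KK k K ⟶ X, p ≫ f = y := by
  obtain ⟨x, hx⟩ := f.left.surjective (y.left (pt0 k K))
  exact exists_lift K f y x hx

theorem surjective_of_pts {X Y : Over (Spec (CommRingCat.of k))} [LocallyOfFiniteType X.hom] [LocallyOfFiniteType Y.hom]
    [QuasiCompact X.hom] (f : X ⟶ Y) (h : ∀ y : KK k K ⟶ Y, ∃ p : KK k K ⟶ X, p ≫ f = y) : Surjective f.left := by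
  have : IsLocallyNoetherian Y.left := LocallyOfFiniteType.isLocallyNoetherian Y.hom
  have hf : LocallyOfFiniteType f.left := by
    have : LocallyOfFiniteType (f.left ≫ Y.hom) := by rw [Over.w]; infer_instance
    exact locallyOfFiniteType_of_comp f.left Y.hom
  have hf' : LocallyOfFinitePresentation f.left := inferInstance
  have hqc : QuasiCompact f.left := by
    have : QuasiSeparated Y.hom := inferInstance
    have : QuasiCompact (f.left ≫ Y.hom) := by
      rw [Over.w]
      infer_instance
    exact QuasiCompact.of_comp f.left Y.hom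
  have hc : IsLocallyConstructible (Set.range f.left) := by
    rw [← Set.image_univ]
    exact f.left.isLocallyConstructible_image .univ
  have : JacobsonSpace Y.left := LocallyOfFiniteType.jacobsonSpace Y.hom
  refine ⟨fun y => ?_⟩
  by_contra hy
  have hc' : IsLocallyConstructible (Set.range f.left)ᶜ := by
    intro x
    obtain ⟨U, hU, hUo, hUc⟩ := hc x
    exact ⟨U, hU, hUo, hUc.compl⟩
  obtain ⟨z, hz, hzc⟩ := exists_isClosed_of_isLocallyConstructible hc' ⟨y, hy⟩
  obtain ⟨p, hp⟩ := exists_pt_of_isClosed K z hzc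
  obtain ⟨q, hq⟩ := h p
  refine hz ⟨q.left (pt0 k K), ?_⟩
  rw [← hp (pt0 k K), ← hq]
  rfl

end K403.GeomPts
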