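import Groth.Agent.AlgGrp.K403.Act

/-! Actions on points, continued: universal points, equivariance on points, cartesian action squares. -/

set_option autoImplicit false
universe u
open CategoryTheory MonoidalCategory CartesianMonoidalCategory MonObj GrpObj AlgebraicGeometry
open Groth.Agent.Books.BorelOrb

namespace K403.Act

variable {S : Scheme.{u}} {G X : Over S} [GrpObj G] (a : AlgGrp.Action G X)

/-- it suffices to test triviality on the universal point. -/
lemma triv_of_univ {T : Over S} {g : T ⟶ G} (h : sm a (fst T X ≫ g) (snd T X) = snd T X) : Triv a g := by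
  intro T' s x
  have h1 := congrArg (fun z => lift s x ≫ z) h
  simp only [comp_sm] at h1
  rw [← Category.assoc, lift_fst, lift_snd] at h1
  exact h1

lemma Triv.univ {T : Over S} {g : T ⟶ G} (h : Triv a g) : sm a (fst T X ≫ g) (snd T X) = snd T X :=
  h _ _ _

/-- equivariance on points. -/
lemma sm_comp_of_equivariant {X Y : Over S} {a : AlgGrp.Action G X} {b : AlgGrp.Action G Y} {f : Y ⟶ X}
    (hf : (G ◁ f) ≫ a.act = b.act ≫ f) {T : Over S} (g : T ⟶ G) (y : T ⟶ Y) :
    sm b g y ≫ f = sm a g (y ≫ f) := by
  rw [sm, sm, Category.assoc, ← hf, ← Category.assoc, lift_whiskerLeft]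

lemma equivariant_of_points {X Y : Over S} {a : AlgGrp.Action G X} {b : AlgGrp.Action G Y} {f : Y ⟶ X}
    (h : ∀ {T : Over S} (g : T ⟶ G) (y : T ⟶ Y), sm b g y ≫ f = sm a g (y ≫ f)) :
    (G ◁ f) ≫ a.act = b.act ≫ f := by
  have := h (fst G Y) (snd G Y)
  rw [sm, sm, lift_fst_snd, Category.id_comp] at this
  rw [this]
  congr 1

/-- The square of an equivariant morphism with the actions is cartesian. -/
theorem isPullback_act {X Y : Over S} {a : AlgGrp.Action G X} {b : AlgGrp.Action G Y} {f : Y ⟶ X}
    (hf : (G ◁ f) ≫ a.act = b.act ≫ f) : IsPullback b.act (G ◁ f) f a.act where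
  w := hf.symm
  isLimit' := ⟨Limits.PullbackCone.IsLimit.mk _
    (fun s => lift (s.snd ≫ fst G X) (sm b (s.snd ≫ fst G X)⁻¹ s.fst))
    (fun s => by
      change sm b _ _ = _
      rw [← mul_sm, mul_inv_cancel, one_sm])
    (fun s => by
      apply CartesianMonoidalCategory.hom_ext
      · simp
      · have h1 : s.fst ≫ f = sm a (s.snd ≫ fst G X) (s.snd ≫ snd G X) := by
          rw [s.condition, sm, ← comp_lift, lift_fst_snd, Category.comp_id]
        rw [lift_whiskerLeft, lift_snd, sm_comp_of_equivariant hf, h1, ← mul_sm, inv_mul_cancel, one_sm])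
    (fun s m h1 h2 => by
      have h3 : m ≫ fst G Y = s.snd ≫ fst G X := by rw [← h2]; simp
      apply CartesianMonoidalCategory.hom_ext
      · rw [lift_fst, h3]
      · rw [lift_snd, ← h1, ← h3]
        have : m ≫ b.act = sm b (m ≫ fst G Y) (m ≫ snd G Y) := by
          rw [sm, ← comp_lift, lift_fst_snd, Category.comp_id]
        rw [this, ← mul_sm, inv_mul_cancel, one_sm])⟩

end K403.Act
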