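import Groth.Prelude.Def_AlgGrp
import Mathlib.AlgebraicGeometry.Morphisms.SchemeTheoreticallyDominant
import Mathlib.AlgebraicGeometry.Morphisms.ClosedImmersion
import Mathlib.AlgebraicGeometry.Morphisms.Separated
import Mathlib.CategoryTheory.Monoidal.Cartesian.Over
import Mathlib.CategoryTheory.Limits.Constructions.Over.Connected
import Mathlib.AlgebraicGeometry.Pullbacks

/-!
# Schematic density in products over a field, and factorisation through closed immersions
-/

set_option autoImplicit false

universe v₁ u₁ u

open CategoryTheory MonoidalCategory CartesianMonoidalCategory MonObj AlgebraicGeometry Opposite Limits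

namespace K403.Dense

/-- A morphism whose restriction along a schematically dominant morphism factors through a closed immersion factors
through that closed immersion. -/
theorem exists_factor {P P' X Z : Scheme.{u}} (p : P' ⟶ P) [IsSchemeTheoreticallyDominant p]
    (j : Z ⟶ X) [IsClosedImmersion j] (f : P ⟶ X) (g : P' ⟶ Z) (h : p ≫ f = g ≫ j) :
    ∃ f' : P ⟶ Z, f' ≫ j = f := by
  have hk : j.ker ≤ f.ker := by
    have h1 : (p ≫ f).ker = f.ker := by
      rw [Scheme.Hom.ker_comp, p.ker_eq_bot, Scheme.IdealSheafData.map_bot]
    rw [← h1, h]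
    exact Scheme.Hom.le_ker_comp _ _
  exact ⟨IsClosedImmersion.lift j f hk, IsClosedImmersion.lift_fac _ _ _⟩

/-- Two morphisms over `S` to a separated scheme agreeing after a schematically dominant morphism agree. -/
theorem eq_of_separated {P P' X S : Scheme.{u}} (p : P' ⟶ P) [IsSchemeTheoreticallyDominant p]
    (q : X ⟶ S) [IsSeparated q] (f g : P ⟶ X) (hfg : f ≫ q = g ≫ q) (h : p ≫ f = p ≫ g) : f = g := by
  obtain ⟨f', hf'⟩ := exists_factor p (pullback.diagonal q) (pullback.lift f g hfg) (p ≫ f) (by
    apply pullback.hom_ext
    · simp only [Category.assoc, pullback.lift_fst, pullback.diagonal_fst, Category.comp_id]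
    · simp only [Category.assoc, pullback.lift_snd, pullback.diagonal_snd, Category.comp_id, h])
  have h1 : f' = f := by
    have := congr($hf' ≫ pullback.fst q q)
    simpa only [Category.assoc, pullback.lift_fst, pullback.diagonal_fst, Category.comp_id] using this
  have h2 : f' = g := by
    have := congr($hf' ≫ pullback.snd q q)
    simpa only [Category.assoc, pullback.lift_snd, pullback.diagonal_snd, Category.comp_id] using this
  rw [← h1, h2]

/-- In a cartesian monoidal category the square of `i ▷ Y` over `i` is cartesian. -/
theorem isPullback_whiskerRight {C : Type u₁} [Category.{v₁} C] [CartesianMonoidalCategory C] {G M : C} (i : G ⟶ M)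
    (Y : C) : IsPullback (fst G Y) (i ▷ Y) i (fst M Y) where
  w := by simp
  isLimit' := ⟨PullbackCone.IsLimit.mk _ (fun s => lift s.fst (s.snd ≫ snd M Y))
    (fun s => by simp) (fun s => by
      apply CartesianMonoidalCategory.hom_ext
      · simp [s.condition]
      · simp)
    (fun s m h1 h2 => by
      apply CartesianMonoidalCategory.hom_ext
      · simpa using h1
      · simp [← h2])⟩

section Over

variable {S : Scheme.{u}}

/-- The square of `i ▷ Y` over `i`, on underlying schemes. -/
theorem isPullback_whiskerRight_left {G M : Over S} (i : G ⟶ M) (Y : Over S) :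
    IsPullback (fst G Y).left (i ▷ Y).left i.left (fst M Y).left :=
  (isPullback_whiskerRight i Y).map (Over.forget S)

scoped instance flat_fst_left (M Y : Over S) [Flat Y.hom] : Flat (fst M Y).left :=
  inferInstanceAs (Flat (pullback.fst M.hom Y.hom))

scoped instance flat_hom_of_field {k : Type u} [Field k] (Y : Over (Spec (CommRingCat.of k))) : Flat Y.hom := by
  have : Subsingleton (Spec (CommRingCat.of k)) := inferInstanceAs (Subsingleton (PrimeSpectrum k))
  infer_instance

scoped instance quasiCompact_whiskerRight_left {G M : Over S} (i : G ⟶ M) (Y : Over S) [QuasiCompact i.left] :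
    QuasiCompact (i ▷ Y).left :=
  MorphismProperty.of_isPullback (isPullback_whiskerRight_left i Y) inferInstance

scoped instance dominant_whiskerRight_left {G M : Over S} (i : G ⟶ M) (Y : Over S) [QuasiCompact i.left]
    [IsSchemeTheoreticallyDominant i.left] [Flat Y.hom] : IsSchemeTheoreticallyDominant (i ▷ Y).left :=
  IsSchemeTheoreticallyDominant.of_isPullback (isPullback_whiskerRight_left i Y)

/-- The square of `Y ◁ i` over `i`, on underlying schemes. -/
theorem isPullback_whiskerLeft {C : Type u₁} [Category.{v₁} C] [CartesianMonoidalCategory C] {G M : C} (i : G ⟶ M)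
    (Y : C) : IsPullback (snd Y G) (Y ◁ i) i (snd Y M) where
  w := by simp
  isLimit' := ⟨PullbackCone.IsLimit.mk _ (fun s => lift (s.snd ≫ fst Y M) s.fst)
    (fun s => by simp) (fun s => by
      apply CartesianMonoidalCategory.hom_ext
      · simp
      · simp [s.condition])
    (fun s m h1 h2 => by
      apply CartesianMonoidalCategory.hom_ext
      · simp [← h2]
      · simpa using h1)⟩

theorem isPullback_whiskerLeft_left {G M : Over S} (i : G ⟶ M) (Y : Over S) :
    IsPullback (snd Y G).left (Y ◁ i).left i.left (snd Y M).left :=
  (isPullback_whiskerLeft i Y).map (Over.forget S)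

scoped instance flat_snd_left (Y M : Over S) [Flat Y.hom] : Flat (snd Y M).left :=
  inferInstanceAs (Flat (pullback.snd Y.hom M.hom))

scoped instance quasiCompact_whiskerLeft_left {G M : Over S} (i : G ⟶ M) (Y : Over S) [QuasiCompact i.left] :
    QuasiCompact (Y ◁ i).left :=
  MorphismProperty.of_isPullback (isPullback_whiskerLeft_left i Y) inferInstance

scoped instance surjective_whiskerLeft_left {G M : Over S} (i : G ⟶ M) (Y : Over S) [Surjective i.left] :
    Surjective (Y ◁ i).left :=
  MorphismProperty.of_isPullback (isPullback_whiskerLeft_left i Y) inferInstance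

scoped instance surjective_whiskerRight_left {G M : Over S} (i : G ⟶ M) (Y : Over S) [Surjective i.left] :
    Surjective (i ▷ Y).left :=
  MorphismProperty.of_isPullback (isPullback_whiskerRight_left i Y) inferInstance

scoped instance flat_whiskerLeft_left {G M : Over S} (i : G ⟶ M) (Y : Over S) [Flat i.left] :
    Flat (Y ◁ i).left :=
  MorphismProperty.of_isPullback (isPullback_whiskerLeft_left i Y) inferInstance

scoped instance flat_whiskerRight_left {G M : Over S} (i : G ⟶ M) (Y : Over S) [Flat i.left] :
    Flat (i ▷ Y).left :=
  MorphismProperty.of_isPullback (isPullback_whiskerRight_left i Y) inferInstance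

scoped instance dominant_whiskerLeft_left {G M : Over S} (i : G ⟶ M) (Y : Over S) [QuasiCompact i.left]
    [IsSchemeTheoreticallyDominant i.left] [Flat Y.hom] : IsSchemeTheoreticallyDominant (Y ◁ i).left :=
  IsSchemeTheoreticallyDominant.of_isPullback (isPullback_whiskerLeft_left i Y)

/-- Factorisation through a closed immersion, in `Over S`. -/
theorem exists_factor_over {P P' X Z : Over S} (p : P' ⟶ P) [IsSchemeTheoreticallyDominant p.left]
    (j : Z ⟶ X) [IsClosedImmersion j.left] (f : P ⟶ X) (g : P' ⟶ Z) (h : p ≫ f = g ≫ j) :
    ∃ f' : P ⟶ Z, f' ≫ j = f := by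
  obtain ⟨f', hf'⟩ := exists_factor p.left j.left f.left g.left (congr(($h).left))
  refine ⟨Over.homMk f' ?_, ?_⟩
  · rw [← Over.w j, reassoc_of% hf', Over.w f]
  · ext1
    exact hf'

/-- Uniqueness of extensions to a separated target, in `Over S`. -/
theorem eq_of_separated_over {P P' X : Over S} (p : P' ⟶ P) [IsSchemeTheoreticallyDominant p.left]
    [IsSeparated X.hom] (f g : P ⟶ X) (h : p ≫ f = p ≫ g) : f = g := by
  ext1
  exact eq_of_separated p.left X.hom f.left g.left (by rw [Over.w, Over.w]) (congr(($h).left))

scoped instance mono_of_mono_left {X Z : Over S} (j : Z ⟶ X) [Mono j.left] : Mono j :=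
  Over.mono_of_mono_left j

end Over

end K403.Dense
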