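import Groth.Agent.AlgGrp.K403.Act2
import Groth.Agent.AlgGrp.K403.Dense

/-! The kernel of an action does not change under an equivariant modification. -/

set_option autoImplicit false
universe u
open CategoryTheory MonoidalCategory CartesianMonoidalCategory MonObj GrpObj AlgebraicGeometry Limits
open Groth.Agent.Books.BorelOrb K403.Act K403.Dense

namespace K403.TrivModif

/-- two morphisms whose composites with `f` agree and land in an open over which `f` is an isomorphism agree. -/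
theorem eq_of_comp_eq {W X Y : Scheme.{u}} (f : Y ⟶ X) (V : X.Opens) [IsIso (f ∣_ V)] (α β : W ⟶ Y)
    (w : W ⟶ V) (hα : α ≫ f = w ≫ V.ι) (hβ : β ≫ f = w ≫ V.ι) : α = β := by
  have hp := isPullback_morphismRestrict f V
  have h1 : hp.lift w α hα.symm = hp.lift w β hβ.symm := by
    rw [← cancel_mono (f ∣_ V), hp.lift_fst, hp.lift_fst]
  rw [← hp.lift_snd w α hα.symm, h1, hp.lift_snd]

variable {k : Type u} [Field k] {G X Y : Over (Spec (CommRingCat.of k))} [GrpObj G]

theorem triv_of_triv {a : AlgGrp.Action G X} {b : AlgGrp.Action G Y} {f : Y ⟶ X}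
    (hf : (G ◁ f) ≫ a.act = b.act ≫ f) [IsSchemeTheoreticallyDominant f.left] [QuasiCompact f.left]
    [IsSeparated X.hom] {T : Over (Spec (CommRingCat.of k))} {g : T ⟶ G} (h : Triv b g) : Triv a g := by
  apply triv_of_univ
  apply eq_of_separated_over (T ◁ f)
  rw [comp_sm, ← Category.assoc, whiskerLeft_fst, whiskerLeft_snd, ← sm_comp_of_equivariant hf, h.univ]

theorem triv_of_triv' {a : AlgGrp.Action G X} {b : AlgGrp.Action G Y} {f : Y ⟶ X}
    (hf : (G ◁ f) ≫ a.act = b.act ≫ f) [IsSeparated Y.hom] (V : X.left.Opens) [IsIso (f.left ∣_ V)]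
    [IsSchemeTheoreticallyDominant (f.left ⁻¹ᵁ V).ι] [QuasiCompact (f.left ⁻¹ᵁ V).ι]
    {T : Over (Spec (CommRingCat.of k))} {g : T ⟶ G} (h : Triv a g) : Triv b g := by
  apply triv_of_univ
  let U : Over (Spec (CommRingCat.of k)) := Over.mk ((f.left ⁻¹ᵁ V).ι ≫ Y.hom)
  let j : U ⟶ Y := Over.homMk (f.left ⁻¹ᵁ V).ι rfl
  have hj : IsSchemeTheoreticallyDominant j.left := inferInstanceAs (IsSchemeTheoreticallyDominant (f.left ⁻¹ᵁ V).ι)
  have hj' : QuasiCompact j.left := inferInstanceAs (QuasiCompact (f.left ⁻¹ᵁ V).ι)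
  apply eq_of_separated_over (T ◁ j)
  have h1 : ((T ◁ j) ≫ sm b (fst T Y ≫ g) (snd T Y)) ≫ f = ((T ◁ j) ≫ snd T Y) ≫ f := by
    rw [Category.assoc, sm_comp_of_equivariant hf, comp_sm, ← Category.assoc, ← Category.assoc]
    exact h _ _ _
  have h3 : ((T ◁ j) ≫ snd T Y).left ≫ f.left = ((snd T U).left ≫ (f.left ∣_ V)) ≫ V.ι := by
    have h4 : (T ◁ j) ≫ snd T Y = snd T U ≫ j := by simp
    rw [h4, Over.comp_left, Category.assoc, Category.assoc, morphismRestrict_ι]
    rfl
  ext1
  refine eq_of_comp_eq f.left V _ _ ((snd T U).left ≫ (f.left ∣_ V)) ?_ h3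
  rw [← h3]
  exact congrArg (fun z => z.left) h1

end K403.TrivModif
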