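import Groth.Agent.AlgGrp.K403.Act2
import Groth.Agent.AlgGrp.K403.Dense
import Groth.Agent.AlgGrp.K405.ConnOrbit
import Mathlib.AlgebraicGeometry.Group.Abelian
import Mathlib.AlgebraicGeometry.Morphisms.FlatMono

/-! A faithful transitive action of an abelian variety on a variety identifies the two. -/

set_option autoImplicit false
universe u
open CategoryTheory MonoidalCategory CartesianMonoidalCategory MonObj GrpObj AlgebraicGeometry
open Groth.Agent.Books.BorelOrb K403.Act K403.Dense

namespace K403.AbOrb

variable {k : Type u} [Field k]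

theorem isIso_orbitMap {Q D : Over (Spec (CommRingCat.of k))} [GrpObj Q] [IsProper Q.hom] [GeometricallyIntegral Q.hom]
    [IsSeparated D.hom] [LocallyOfFiniteType D.hom] [IsIntegral D.left] (b : AlgGrp.Action Q D)
    (hf : ∀ {T : Over (Spec (CommRingCat.of k))} (q : T ⟶ Q), Triv b q → q = 1)
    (x : 𝟙_ (Over (Spec (CommRingCat.of k))) ⟶ D) (hs : Surjective (b.orbitMap x).left) : IsIso (b.orbitMap x).left := by
  have hcomm : IsCommMonObj Q := isCommMonObj_of_isProper_of_geometricallyIntegral Q
  have hflat : Flat (b.orbitMap x).left := K405.ConnOrbit.flat_orbitMap b x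
  have hprop : IsProper (b.orbitMap x).left := by
    have : IsProper ((b.orbitMap x).left ≫ D.hom) := by rw [Over.w]; infer_instance
    exact IsProper.of_comp _ D.hom
  have hqc : QuasiCompact (b.orbitMap x).left := inferInstance
  have hmono : Mono (b.orbitMap x) := by
    constructor
    intro T q q' h
    rw [K405.ConnOrbit.comp_orbitMap, K405.ConnOrbit.comp_orbitMap] at h
    change sm b q (toUnit T ≫ x) = sm b q' (toUnit T ≫ x) at h
    have h1 : sm b (q⁻¹ * q') (toUnit T ≫ x) = toUnit T ≫ x := by
      rw [mul_sm, ← h, ← mul_sm, inv_mul_cancel, one_sm]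
    have h2 : Triv b (q⁻¹ * q') := by
      intro T' s y
      obtain ⟨T'', c, g, hc, -, -, -, hcg⟩ := exists_cover (b.orbitMap x) y
      rw [← cancel_epi c, comp_sm, hcg]
      rw [K405.ConnOrbit.comp_orbitMap]
      change sm b _ (sm b g (toUnit T'' ≫ x)) = sm b g (toUnit T'' ≫ x)
      rw [← mul_sm]
      have h3 : (c ≫ s ≫ (q⁻¹ * q')) * g = g * (c ≫ s ≫ (q⁻¹ * q')) := mul_comm _ _
      rw [h3, mul_sm]
      congr 1
      have h4 := congrArg (fun z => (c ≫ s) ≫ z) h1
      simp only [comp_sm] at h4
      rw [← Category.assoc, toUnit_unique ((c ≫ s) ≫ toUnit T) (toUnit T'')] at h4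
      rw [← Category.assoc c s]
      exact h4
    have h5 := hf _ h2
    rwa [inv_mul_eq_one] at h5
  have hmono' : Mono (b.orbitMap x).left := inferInstance
  have hN : IsLocallyNoetherian D.left := LocallyOfFiniteType.isLocallyNoetherian D.hom
  have hlfp : LocallyOfFinitePresentation (b.orbitMap x).left :=
    LocallyOfFinitePresentation.iff_locallyOfFiniteType.mpr inferInstance
  have h1 : IsOpenImmersion (b.orbitMap x).left := IsOpenImmersion.of_flat_of_mono _
  have h2 : Epi (b.orbitMap x).left.base := by
    rw [TopCat.epi_iff_surjective]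
    exact (b.orbitMap x).left.surjective
  exact IsOpenImmersion.isIso _

end K403.AbOrb
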