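import Groth.Agent.Books.BorelOrb
import Groth.Agent.Agf.H584.QBasic

/-! Actions on points; covers. -/

set_option autoImplicit false
universe u
open CategoryTheory MonoidalCategory CartesianMonoidalCategory MonObj GrpObj AlgebraicGeometry
open Groth.Agent.Books.BorelOrb

namespace K403.Act

variable {S : Scheme.{u}}

/-- lifting a point along a faithfully flat quasi-compact morphism after a cover -/
theorem exists_cover {G X T : Over S} (p : G ⟶ X) [Flat p.left] [Surjective p.left] [QuasiCompact p.left]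
    (x : T ⟶ X) : ∃ (T' : Over S) (c : T' ⟶ T) (g : T' ⟶ G), Epi c ∧ Flat c.left ∧ Surjective c.left ∧
      QuasiCompact c.left ∧ c ≫ x = g ≫ p := by
  let T' : Over S := Over.mk (Limits.pullback.fst x.left p.left ≫ T.hom)
  let c : T' ⟶ T := Over.homMk (Limits.pullback.fst x.left p.left) rfl
  let g : T' ⟶ G := Over.homMk (Limits.pullback.snd x.left p.left) (by
    change _ = Limits.pullback.fst x.left p.left ≫ T.hom
    rw [← Over.w p, ← Limits.pullback.condition_assoc, Over.w])
  have h1 : Flat c.left := inferInstanceAs (Flat (Limits.pullback.fst x.left p.left))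
  have h2 : Surjective c.left := inferInstanceAs (Surjective (Limits.pullback.fst x.left p.left))
  have h3 : QuasiCompact c.left := inferInstanceAs (QuasiCompact (Limits.pullback.fst x.left p.left))
  refine ⟨T', c, g, Groth.Agent.Agf.H584.QBasic.epi_of c, h1, h2, h3, ?_⟩
  ext1
  exact Limits.pullback.condition

variable {G X : Over S} [GrpObj G] (a : AlgGrp.Action G X)

/-- a `T`-point `g` acts trivially (functorially). -/
def Triv {T : Over S} (g : T ⟶ G) : Prop :=
  ∀ (T' : Over S) (s : T' ⟶ T) (x : T' ⟶ X), sm a (s ≫ g) x = x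

lemma Triv.comp {T T' : Over S} {g : T ⟶ G} (h : Triv a g) (t : T' ⟶ T) : Triv a (t ≫ g) := by
  intro T'' s x
  rw [← Category.assoc]
  exact h _ _ _

lemma Triv.sm_eq {T : Over S} {g : T ⟶ G} (h : Triv a g) (x : T ⟶ X) : sm a g x = x := by
  have := h T (𝟙 T) x
  rwa [Category.id_comp] at this

lemma Triv.conj {T : Over S} {n : T ⟶ G} (h : Triv a n) (g : T ⟶ G) : Triv a (g * n * g⁻¹) := by
  intro T' s x
  rw [MonObj.comp_mul, MonObj.comp_mul, GrpObj.comp_inv, mul_sm, mul_sm, (h.comp a s).sm_eq, ← mul_sm,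
    mul_inv_cancel, one_sm]

lemma Triv.one {T : Over S} : Triv a (1 : T ⟶ G) := by
  intro T' s x
  rw [MonObj.comp_one, one_sm]

lemma Triv.mul {T : Over S} {g h : T ⟶ G} (hg : Triv a g) (hh : Triv a h) : Triv a (g * h) := by
  intro T' s x
  rw [MonObj.comp_mul, mul_sm, hh, hg]

lemma Triv.inv {T : Over S} {g : T ⟶ G} (hg : Triv a g) : Triv a g⁻¹ := by
  intro T' s x
  nth_rewrite 1 [← hg T' s x]
  rw [← mul_sm, ← MonObj.comp_mul, inv_mul_cancel, MonObj.comp_one, one_sm]

end K403.Act
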