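import Mathlib.CategoryTheory.Monoidal.Cartesian.Over
import Mathlib.CategoryTheory.Monoidal.Cartesian.Grp
import Mathlib.AlgebraicGeometry.Pullbacks

/-! The comultiplication and counit of a group scheme whose underlying scheme is `Spec A`. -/

universe u
open CategoryTheory MonoidalCategory CartesianMonoidalCategory MonObj GrpObj AlgebraicGeometry CategoryTheory.Limits
open TensorProduct

namespace K403.AffGrp

/-- pull back of functions along a morphism to an affine scheme -/
noncomputable def sharp {X : Scheme.{u}} {R : CommRingCat.{u}} (s : X ⟶ Spec R) : R →+* Γ(X, ⊤) :=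
  s.appTop.hom.comp (Scheme.ΓSpecIso R).inv.hom

lemma sharp_comp {X : Scheme.{u}} {R R' : CommRingCat.{u}} (s : X ⟶ Spec R) (φ : R' ⟶ R) :
    sharp (s ≫ Spec.map φ) = (sharp s).comp φ.hom := by
  ext r
  have h := congrArg (fun z => z.hom r) (Scheme.ΓSpecIso_inv_naturality φ)
  simp only [CommRingCat.hom_comp, RingHom.coe_comp, Function.comp_apply] at h
  simp only [sharp, RingHom.coe_comp, Function.comp_apply]
  rw [h, Scheme.Hom.comp_appTop]
  rfl

variable {k : Type u} [Field k] {A : Type u} [CommRing A] [Algebra k A]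

theorem exists_comul (G : Over (Spec (CommRingCat.of k))) [GrpObj G]
    (e : G.left ≅ Spec (CommRingCat.of A))
    (he : e.hom ≫ Spec.map (CommRingCat.ofHom (algebraMap k A)) = G.hom) :
    ∃ (δ : A →ₐ[k] A ⊗[k] A) (ε : A →ₐ[k] k),
      (η[G]).left ≫ e.hom = Spec.map (CommRingCat.ofHom ε.toRingHom) ∧
      ((Algebra.TensorProduct.rid k k A).toAlgHom.comp (Algebra.TensorProduct.map (AlgHom.id k A) ε)).comp δ =
        AlgHom.id k A ∧
      ((Algebra.TensorProduct.lid k A).toAlgHom.comp (Algebra.TensorProduct.map ε (AlgHom.id k A))).comp δ =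
        AlgHom.id k A ∧
      ∀ (S : Over (Spec (CommRingCat.of k))) (g h : S ⟶ G), ∃ θ : A ⊗[k] A →+* Γ(S.left, ⊤),
        (∀ a, θ (a ⊗ₜ 1) = sharp (g.left ≫ e.hom) a) ∧
        (∀ a, θ (1 ⊗ₜ a) = sharp (h.left ≫ e.hom) a) ∧
        ∀ a, θ (δ a) = sharp ((g * h).left ≫ e.hom) a := by
  let SA : Over (Spec (CommRingCat.of k)) := Over.mk (Spec.map (CommRingCat.ofHom (algebraMap k A)))
  let SAA : Over (Spec (CommRingCat.of k)) := Over.mk (Spec.map (CommRingCat.ofHom (algebraMap k (A ⊗[k] A))))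
  let E : G ≅ SA := Over.isoMk e he
  let pL : SAA ⟶ SA := Over.homMk (Spec.map (CommRingCat.ofHom Algebra.TensorProduct.includeLeftRingHom)) (by
    simp only [SAA, SA, Over.mk_hom]
    rw [← Spec.map_comp]; rfl)
  let pR : SAA ⟶ SA := Over.homMk (Spec.map (CommRingCat.ofHom (Algebra.TensorProduct.includeRight : A →ₐ[k] A ⊗[k] A).toRingHom)) (by
    simp only [SAA, SA, Over.mk_hom]
    rw [← Spec.map_comp]
    congr 1
    ext x
    exact (Algebra.TensorProduct.includeRight : A →ₐ[k] A ⊗[k] A).commutes x)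
  let Φ : SAA ⟶ G ⊗ G := lift (pL ≫ E.inv) (pR ≫ E.inv)
  have hΦ : IsIso Φ := by
    let Φ' : SAA ≅ SA ⊗ SA := Over.isoMk (pullbackSpecIso k A A).symm (by
      simp only [SAA, SA]
      rw [Iso.symm_hom, Iso.inv_comp_eq]
      exact (pullbackSpecIso_hom_base k A A).symm)
    have : Φ = Φ'.hom ≫ (E.inv ⊗ₘ E.inv) := by
      apply CartesianMonoidalCategory.hom_ext
      · rw [lift_fst, Category.assoc, tensorHom_fst, ← Category.assoc]
        congr 1
        ext1
        exact (pullbackSpecIso_inv_fst k A A).symm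
      · rw [lift_snd, Category.assoc, tensorHom_snd, ← Category.assoc]
        congr 1
        ext1
        exact (pullbackSpecIso_inv_snd k A A).symm
    rw [this]
    infer_instance
  -- comultiplication
  obtain ⟨δ0, hδ0⟩ : ∃ δ0 : CommRingCat.of A ⟶ CommRingCat.of (A ⊗[k] A), Spec.map δ0 = (Φ ≫ μ[G] ≫ E.hom).left :=
    ⟨Spec.preimage _, Spec.map_preimage _⟩
  have hδ0k : δ0.hom.comp (algebraMap k A) = algebraMap k (A ⊗[k] A) := by
    have h1 : Spec.map δ0 ≫ Spec.map (CommRingCat.ofHom (algebraMap k A)) =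
        Spec.map (CommRingCat.ofHom (algebraMap k (A ⊗[k] A))) := by
      rw [hδ0]
      exact Over.w (Φ ≫ μ[G] ≫ E.hom)
    rw [← Spec.map_comp] at h1
    have h2 := Spec.map_injective h1
    exact congrArg CommRingCat.Hom.hom h2
  let δ : A →ₐ[k] A ⊗[k] A := { δ0.hom with commutes' := fun r => congrArg (fun z => z r) hδ0k }
  have hδ : CommRingCat.ofHom δ.toRingHom = δ0 := rfl
  -- counit
  obtain ⟨ε0, hε0⟩ : ∃ ε0 : CommRingCat.of A ⟶ CommRingCat.of k, Spec.map ε0 = (η[G] ≫ E.hom).left :=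
    ⟨Spec.preimage _, Spec.map_preimage _⟩
  have hε0k : ε0.hom.comp (algebraMap k A) = RingHom.id k := by
    have h1 : Spec.map ε0 ≫ Spec.map (CommRingCat.ofHom (algebraMap k A)) = 𝟙 _ := by
      rw [hε0]
      exact Over.w (η[G] ≫ E.hom)
    rw [← Spec.map_comp] at h1
    have h2 : CommRingCat.ofHom (algebraMap k A) ≫ ε0 = 𝟙 _ := Spec.map_injective (by rw [h1, Spec.map_id])
    exact congrArg CommRingCat.Hom.hom h2
  let ε : A →ₐ[k] k := { ε0.hom with commutes' := fun r => congrArg (fun z => z r) hε0k }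
  have hε : CommRingCat.ofHom ε.toRingHom = ε0 := rfl
  -- the two partial counits
  let ψ1 : A ⊗[k] A →ₐ[k] A := (Algebra.TensorProduct.rid k k A).toAlgHom.comp (Algebra.TensorProduct.map (AlgHom.id k A) ε)
  let ψ2 : A ⊗[k] A →ₐ[k] A := (Algebra.TensorProduct.lid k A).toAlgHom.comp (Algebra.TensorProduct.map ε (AlgHom.id k A))
  let Ψ1 : SA ⟶ SAA := Over.homMk (Spec.map (CommRingCat.ofHom ψ1.toRingHom)) (by
    simp only [SAA, SA, Over.mk_hom]
    rw [← Spec.map_comp]
    congr 1
    ext x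
    exact ψ1.commutes x)
  let Ψ2 : SA ⟶ SAA := Over.homMk (Spec.map (CommRingCat.ofHom ψ2.toRingHom)) (by
    simp only [SAA, SA, Over.mk_hom]
    rw [← Spec.map_comp]
    congr 1
    ext x
    exact ψ2.commutes x)
  have hconst : (toUnit SA ≫ η[G] : SA ⟶ G).left ≫ e.hom = Spec.map (CommRingCat.ofHom ((algebraMap k A).comp ε0.hom)) := by
    have h1 : (toUnit SA ≫ η[G] : SA ⟶ G).left ≫ e.hom = (toUnit SA).left ≫ (η[G] ≫ E.hom).left := by
      rw [Over.comp_left, Over.comp_left, Category.assoc]; rfl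
    rw [h1, ← hε0]
    have h2 : (toUnit SA).left = Spec.map (CommRingCat.ofHom (algebraMap k A)) := rfl
    rw [h2, ← Spec.map_comp]
    rfl
  have hΨ1 : Ψ1 ≫ Φ = E.inv ≫ lift (𝟙 G) (toUnit G ≫ η[G]) := by
    apply CartesianMonoidalCategory.hom_ext
    · rw [Category.assoc, lift_fst, Category.assoc, lift_fst, Category.comp_id, ← Category.assoc]
      have : Ψ1 ≫ pL = 𝟙 _ := by
        ext1
        change Spec.map _ ≫ Spec.map _ = 𝟙 _
        rw [← Spec.map_comp, ← Spec.map_id]
        congr 1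
        ext x
        simp [ψ1]
      rw [this, Category.id_comp]
    · rw [Category.assoc, lift_snd, Category.assoc, lift_snd, ← Category.assoc E.inv, toUnit_unique (E.inv ≫ toUnit G) (toUnit SA),
        ← Category.assoc]
      rw [← cancel_mono E.hom, Category.assoc, Category.assoc, Category.assoc, Iso.inv_hom_id, Category.comp_id]
      ext1
      change Spec.map _ ≫ Spec.map _ = (toUnit SA ≫ η[G] : SA ⟶ G).left ≫ e.hom
      rw [hconst, ← Spec.map_comp]
      congr 1
      ext x
      simp [ψ1, ε, Algebra.algebraMap_eq_smul_one]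
  have hΨ2 : Ψ2 ≫ Φ = E.inv ≫ lift (toUnit G ≫ η[G]) (𝟙 G) := by
    apply CartesianMonoidalCategory.hom_ext
    · rw [Category.assoc, lift_fst, Category.assoc, lift_fst, ← Category.assoc E.inv, toUnit_unique (E.inv ≫ toUnit G) (toUnit SA),
        ← Category.assoc]
      rw [← cancel_mono E.hom, Category.assoc, Category.assoc, Category.assoc, Iso.inv_hom_id, Category.comp_id]
      ext1
      change Spec.map _ ≫ Spec.map _ = (toUnit SA ≫ η[G] : SA ⟶ G).left ≫ e.hom
      rw [hconst, ← Spec.map_comp]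
      congr 1
      ext x
      simp [ψ2, ε, Algebra.algebraMap_eq_smul_one]
    · rw [Category.assoc, lift_snd, Category.assoc, lift_snd, Category.comp_id, ← Category.assoc]
      have : Ψ2 ≫ pR = 𝟙 _ := by
        ext1
        change Spec.map _ ≫ Spec.map _ = 𝟙 _
        rw [← Spec.map_comp, ← Spec.map_id]
        congr 1
        ext x
        simp [ψ2]
      rw [this, Category.id_comp]
  have h1 : ψ1.comp δ = AlgHom.id k A := by
    have h3 : Ψ1 ≫ (Φ ≫ μ[G] ≫ E.hom) = 𝟙 _ := by
      rw [← Category.assoc, hΨ1, Category.assoc, ← Category.assoc (CartesianMonoidalCategory.lift _ _)]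
      have : lift (𝟙 G) (toUnit G ≫ η[G]) ≫ μ[G] = 𝟙 G := by
        have := _root_.mul_one (𝟙 G)
        exact this
      rw [this, Category.id_comp, Iso.inv_hom_id]
    have h4 := congrArg (fun z => z.left) h3
    have h5 : Spec.map (CommRingCat.ofHom ψ1.toRingHom) ≫ Spec.map δ0 = 𝟙 _ := by
      rw [hδ0]; exact h4
    rw [← Spec.map_comp, ← Spec.map_id] at h5
    have h6 := congrArg CommRingCat.Hom.hom (Spec.map_injective h5)
    ext x
    exact congrArg (fun z => z x) h6
  have h2 : ψ2.comp δ = AlgHom.id k A := by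
    have h3 : Ψ2 ≫ (Φ ≫ μ[G] ≫ E.hom) = 𝟙 _ := by
      rw [← Category.assoc, hΨ2, Category.assoc, ← Category.assoc (CartesianMonoidalCategory.lift _ _)]
      have : lift (toUnit G ≫ η[G]) (𝟙 G) ≫ μ[G] = 𝟙 G := by
        have := _root_.one_mul (𝟙 G)
        exact this
      rw [this, Category.id_comp, Iso.inv_hom_id]
    have h4 := congrArg (fun z => z.left) h3
    have h5 : Spec.map (CommRingCat.ofHom ψ2.toRingHom) ≫ Spec.map δ0 = 𝟙 _ := by
      rw [hδ0]; exact h4
    rw [← Spec.map_comp, ← Spec.map_id] at h5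
    have h6 := congrArg CommRingCat.Hom.hom (Spec.map_injective h5)
    ext x
    exact congrArg (fun z => z x) h6
  refine ⟨δ, ε, ?_, h1, h2, ?_⟩
  · rw [hε, hε0]; rfl
  intro S g h
  let s : S ⟶ SAA := lift g h ≫ inv Φ
  have hs : lift g h = s ≫ Φ := by simp [s]
  have hgh : (g * h).left ≫ e.hom = s.left ≫ Spec.map δ0 := by
    rw [hδ0, Hom.mul_def, hs]
    rfl
  have hg : g.left ≫ e.hom = s.left ≫ pL.left := by
    have h3 : g ≫ E.hom = s ≫ pL := by
      have h4 : Φ ≫ fst G G = pL ≫ E.inv := lift_fst _ _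
      rw [← lift_fst g h, hs]
      simp only [Category.assoc]
      rw [reassoc_of% h4, Iso.inv_hom_id, Category.comp_id]
    exact congrArg (fun z => z.left) h3
  have hh : h.left ≫ e.hom = s.left ≫ pR.left := by
    have h3 : h ≫ E.hom = s ≫ pR := by
      have h4 : Φ ≫ snd G G = pR ≫ E.inv := lift_snd _ _
      rw [← lift_snd g h, hs]
      simp only [Category.assoc]
      rw [reassoc_of% h4, Iso.inv_hom_id, Category.comp_id]
    exact congrArg (fun z => z.left) h3
  refine ⟨sharp s.left, ?_, ?_, ?_⟩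
  · intro a
    rw [hg]
    exact (congrArg (fun z => z a) (sharp_comp s.left (CommRingCat.ofHom Algebra.TensorProduct.includeLeftRingHom))).symm
  · intro a
    rw [hh]
    exact (congrArg (fun z => z a) (sharp_comp s.left (CommRingCat.ofHom (Algebra.TensorProduct.includeRight : A →ₐ[k] A ⊗[k] A).toRingHom))).symm
  · intro a
    rw [hgh]
    exact (congrArg (fun z => z a) (sharp_comp s.left δ0)).symm

end K403.AffGrp
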