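import Groth.Agent.S1937
import Groth.Agent.S1612
import Groth.Agent.S1521
import Groth.Agent.CurvesB.OmegaInv
import Groth.Agent.VarietyA.CurveFin
import Groth.Agent.Cyc.K308.RFilt

/-! A proper smooth one-dimensional group scheme over a field with global functions `k` has genus one. -/

set_option autoImplicit false
universe u
open CategoryTheory MonoidalCategory CartesianMonoidalCategory MonObj GrpObj AlgebraicGeometry

namespace K403.EllGenus

theorem genus_eq_one {k : Type u} [Field k] (E : Over (Spec (CommRingCat.of k))) [GrpObj E] [IsProper E.hom]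
    [Smooth E.hom] [IsIntegral E.left] (hdim : topologicalKrullDim E.left = 1) :
    letI : E.left.Over (Spec (CommRingCat.of k)) := ⟨E.hom⟩
    Module.finrank k (Coh.HH E.left (Coh.structureModule E.left) 0) = 1 → Curv2.genus k E.left = 1 := by
  let iO : E.left.Over (Spec (CommRingCat.of k)) := ⟨E.hom⟩
  intro h0
  have hX : Curve.IsSmoothProperCurve k E.left (E.left ↘ (Spec (CommRingCat.of k))) :=
    ⟨inferInstanceAs (IsProper E.hom), inferInstanceAs (Smooth E.hom), inferInstance, hdim⟩
  have hP : IsProper (E.left ↘ (Spec (CommRingCat.of k))) := hX.1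
  obtain ⟨h1, h2⟩ := Groth.Agent.S1612.result k E.left hX h0
  obtain ⟨I, ⟨e⟩⟩ := (Groth.Agent.S1937.result (Spec (CommRingCat.of k)) E).2 k ⟨Iso.refl _⟩
  have hinv : PicF.IsInvertible (Omega.sheaf E.hom) :=
    Groth.Agent.CurvesB.OmegaInv.isInvertible_omega E.hom hdim
  have hO : PicF.IsInvertible (Coh.structureModule E.left) :=
    Groth.Agent.Fdesc.LocGen.isInvertible_structureModule
  have hne : Nonempty I := by
    by_contra hc
    rw [not_nonempty_iff] at hc
    have hz : Limits.IsZero (Omega.sheaf E.hom) := by
      refine Limits.IsZero.of_iso ?_ e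
      refine (Limits.IsZero.iff_id_eq_zero _).2 ?_
      apply Limits.Sigma.hom_ext
      intro i
      exact hc.elim i
    have := K308.Grp.isEmpty_of_isZero hinv hz
    exact this.elim (Nonempty.some inferInstance)
  obtain ⟨i⟩ := hne
  let s : Coh.structureModule E.left ⟶ Omega.sheaf E.hom := Limits.Sigma.ι (fun _ : I => Coh.structureModule E.left) i ≫ e.inv
  let t : Omega.sheaf E.hom ⟶ Coh.structureModule E.left := e.hom ≫ Limits.Sigma.desc (fun _ => 𝟙 _)
  have hst : s ≫ t = 𝟙 _ := by
    simp [s, t]
  have hid : (𝟙 (Coh.structureModule E.left) : Coh.structureModule E.left ⟶ _) ≠ 0 := by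
    intro h
    have hz : Limits.IsZero (Coh.structureModule E.left) := (Limits.IsZero.iff_id_eq_zero _).2 h
    have := K308.Grp.isEmpty_of_isZero hO hz
    exact this.elim (Nonempty.some inferInstance)
  have hs : s ≠ 0 := by
    intro h
    apply hid
    rw [← hst, h, Limits.zero_comp]
  have ht : t ≠ 0 := by
    intro h
    apply hid
    rw [← hst, h, Limits.comp_zero]
  have h3 := (Groth.Agent.S1521.result k E.left hdim _ _ hO hinv s hs).1
  have h4 := (Groth.Agent.S1521.result k E.left hdim _ _ hinv hO t ht).1
  have h5 : Curv2.deg k E.left (Coh.structureModule E.left) 1 = 0 := by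
    simp [Curv2.deg]
  rw [h5] at h3 h4
  have h6 : Curv2.deg k E.left (Omega.sheaf E.hom) 1 = 2 * (Curv2.genus k E.left : ℤ) - 2 := h2
  omega

end K403.EllGenus
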