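import Groth.Agent.AlgGrp.K403.GeomPts
import Groth.Agent.Fdesc.GeomConn
import Mathlib.AlgebraicGeometry.Artinian
import Mathlib.AlgebraicGeometry.Morphisms.QuasiFinite
import Mathlib.CategoryTheory.Monoidal.Cartesian.Grp
import Mathlib.AlgebraicGeometry.Sites.Fpqc

/-! Morphisms are determined on geometric points; geometric connectedness of groups; discrete targets. -/

set_option autoImplicit false
universe u
open CategoryTheory MonoidalCategory CartesianMonoidalCategory MonObj AlgebraicGeometry Limits Topology

namespace K403.GeomPts

section ext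
variable {k : Type u} [Field k] (K : Type u) [Field K] [Algebra k K] [IsAlgClosed K]

/-- Morphisms from a reduced scheme locally of finite type over `k` to a separated one are determined on `K`-points. -/
theorem ext_of_pts {X Y : Over (Spec (CommRingCat.of k))} [LocallyOfFiniteType X.hom] [IsReduced X.left]
    [IsSeparated Y.hom] (f g : X ⟶ Y) (h : ∀ p : KK k K ⟶ X, p ≫ f = p ≫ g) : f = g := by
  have hJ : JacobsonSpace X.left := LocallyOfFiniteType.jacobsonSpace X.hom
  ext1
  refine ext_of_fromSpecResidueField_eq f.left g.left Y.hom (closedPoints X.left) ?_ ?_ ?_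
  · rw [dense_iff_closure_eq, closure_closedPoints]
  · intro x hx
    -- the K-point over x factors through the residue field
    have h1 : LocallyOfFiniteType (X.left.fromSpecResidueField x) := isClosed_singleton_iff_locallyOfFiniteType.mp hx
    obtain ⟨φ, hφ⟩ : ∃ φ : CommRingCat.of k ⟶ X.left.residueField x, Spec.map φ = X.left.fromSpecResidueField x ≫ X.hom :=
      ⟨Spec.preimage _, Spec.map_preimage _⟩
    have h2 : LocallyOfFiniteType (Spec.map φ) := by rw [hφ]; infer_instance
    have h3 : φ.hom.FiniteType := (HasRingHomProperty.Spec_iff (P := @LocallyOfFiniteType)).mp h2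
    let _ : Algebra k (X.left.residueField x) := φ.hom.toAlgebra
    have h4 : Algebra.FiniteType k (X.left.residueField x) := h3
    have h5 : Module.Finite k (X.left.residueField x) := finite_of_finite_type_of_isJacobsonRing k _
    let σ : (X.left.residueField x) →ₐ[k] K := IsAlgClosed.lift
    let σ' : X.left.residueField x ⟶ CommRingCat.of K := CommRingCat.ofHom σ.toRingHom
    have hp : (Spec.map σ' ≫ X.left.fromSpecResidueField x) ≫ X.hom = Spec.map (CommRingCat.ofHom (algebraMap k K)) := by
      rw [Category.assoc, ← hφ, ← Spec.map_comp]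
      congr 1
      ext z
      exact σ.commutes z
    have h6 := congrArg (fun z => z.left) (h (Over.homMk (Spec.map σ' ≫ X.left.fromSpecResidueField x) hp))
    simp only [Over.comp_left, Over.homMk_left, Category.assoc] at h6
    have : Epi (Spec.map σ') := by
      have hflat : Flat (Spec.map σ') := by
        have : Subsingleton (Spec (X.left.residueField x)) := inferInstanceAs (Subsingleton (PrimeSpectrum _))
        infer_instance
      have hsurj : Surjective (Spec.map σ') := by
        refine ⟨fun y => ⟨IsLocalRing.closedPoint K, ?_⟩⟩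
        have : Subsingleton (Spec (X.left.residueField x)) := inferInstanceAs (Subsingleton (PrimeSpectrum _))
        exact Subsingleton.elim _ _
      infer_instance
    exact (cancel_epi (Spec.map σ')).mp h6
  · rw [Over.w, Over.w]

end ext

section conn

variable {k : Type u} [Field k]

theorem geometricallyConnected_of_isIso {X Y : Scheme.{u}} (f : X ⟶ Y) [IsIso f] :
    GeometricallyConnected f := by
  refine ⟨fun K _ y Z fst snd h ↦ ?_⟩
  have : IsIso snd := MorphismProperty.of_isPullback (P := MorphismProperty.isomorphisms Scheme.{u}) h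
    (inferInstanceAs (IsIso f))
  exact (Scheme.homeoOfIso (asIso snd)).symm.surjective.connectedSpace
    (Scheme.homeoOfIso (asIso snd)).symm.continuous

/-- a connected group scheme over a field is geometrically connected. -/
theorem geometricallyConnected (G : Over (Spec (CommRingCat.of k))) [GrpObj G]
    [ConnectedSpace G.left] : GeometricallyConnected G.hom := by
  let g : Spec (CommRingCat.of k) ⟶ G.left := (η[G] : 𝟙_ (Over (Spec (CommRingCat.of k))) ⟶ G).left
  have hg : g ≫ G.hom = 𝟙 _ := Over.w (η[G] : 𝟙_ (Over (Spec (CommRingCat.of k))) ⟶ G)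
  have h1 : GeometricallyConnected (g ≫ G.hom) := by
    rw [hg]
    exact geometricallyConnected_of_isIso _
  exact Groth.Agent.Fdesc.GeomConn.geometricallyConnected_of_hom G.hom g

theorem connectedSpace_prod_KK (G : Over (Spec (CommRingCat.of k))) [GrpObj G] [ConnectedSpace G.left]
    (K : Type u) [Field K] [Algebra k K] : ConnectedSpace (G ⊗ KK k K).left := by
  have h := geometricallyConnected G
  exact h.geometrically_connectedSpace (Spec.map (CommRingCat.ofHom (algebraMap k K)))
    (pullback.fst G.hom (Spec.map (CommRingCat.ofHom (algebraMap k K)))) (pullback.snd G.hom _)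
    (IsPullback.of_hasPullback G.hom _)

/-- two `K`-points of `Z` whose associated points of `Z_K` agree are equal. -/
theorem eq_of_pt_eq {K : Type u} [Field K] [Algebra k K] [IsAlgClosed K] {Z : Over (Spec (CommRingCat.of k))}
    [LocallyOfFiniteType Z.hom] (z z' : KK k K ⟶ Z)
    (h : (lift z (𝟙 (KK k K))).left (pt0 k K) = (lift z' (𝟙 (KK k K))).left (pt0 k K)) : z = z' := by
  have hft : LocallyOfFiniteType (snd Z (KK k K)).left :=
    inferInstanceAs (LocallyOfFiniteType (pullback.snd Z.hom (KK k K).hom))
  have h1 : (lift z (𝟙 (KK k K))).left = (lift z' (𝟙 (KK k K))).left := by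
    refine ext_of_apply_closedPoint_eq (K := K) (X := (Z ⊗ KK k K).left) (snd Z (KK k K)).left ?_ ?_ h
    · exact congrArg (fun z => z.left) (lift_snd z (𝟙 (KK k K)))
    · exact congrArg (fun z => z.left) (lift_snd z' (𝟙 (KK k K)))
  have h2 : lift z (𝟙 (KK k K)) = lift z' (𝟙 (KK k K)) := Over.OverMorphism.ext h1
  rw [← lift_fst z (𝟙 (KK k K)), h2, lift_fst]

theorem discreteTopology_of_dim {Z : Scheme.{u}} (f : Z ⟶ Spec (CommRingCat.of k)) [LocallyOfFiniteType f]
    (hdim : topologicalKrullDim Z ≤ 0) : DiscreteTopology Z := by
  have : IsLocallyNoetherian Z := LocallyOfFiniteType.isLocallyNoetherian f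
  have : IsLocallyArtinian Z := IsLocallyArtinian.of_topologicalKrullDim_le_zero hdim
  infer_instance

theorem discreteTopology_prod {Z : Over (Spec (CommRingCat.of k))} [LocallyOfFiniteType Z.hom]
    (hdim : topologicalKrullDim Z.left ≤ 0) (K : Type u) [Field K] [Algebra k K] :
    DiscreteTopology (Z ⊗ KK k K).left := by
  have h1 : DiscreteTopology Z.left := discreteTopology_of_dim Z.hom hdim
  have h2 : LocallyQuasiFinite Z.hom := by
    rw [locallyQuasiFinite_iff_isDiscrete_preimage_singleton]
    intro x
    exact (isDiscrete_univ_iff.2 h1).mono (Set.subset_univ _)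
  have h3 : LocallyQuasiFinite (snd Z (KK k K)).left :=
    inferInstanceAs (LocallyQuasiFinite (pullback.snd Z.hom (KK k K).hom))
  have h4 := (snd Z (KK k K)).left.isDiscrete_preimage (s := Set.univ) (isDiscrete_univ_iff.2 inferInstance)
  rw [Set.preimage_univ] at h4
  exact isDiscrete_univ_iff.1 h4

end conn

end K403.GeomPts
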