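import Groth.Agent.AlgGrp.K403.Act2
import Groth.Agent.AlgGrp.K403.Dense
import Groth.Agent.AlgGrp.K403.GeomPts2
import Groth.Agent.Ega2.Normal
import Groth.Agent.Ega4dA.SmoothStalk
import Groth.Agent.Flat2B.SmoothGeom
import Groth.Agent.Fga.DimLt
import Groth.Agent.S0348
import Mathlib.AlgebraicGeometry.ZariskisMainTheorem

/-! Extending an action to a normal completion by finitely many points. -/

set_option autoImplicit false
universe u
open CategoryTheory MonoidalCategory CartesianMonoidalCategory MonObj GrpObj AlgebraicGeometry Limits Topology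
open Groth.Agent.Books.BorelOrb K403.Act K403.Dense K403.GeomPts

namespace K403.ExtAct

/-- closures in an open subscheme. -/
theorem closure_inter_range {W X Y : Scheme.{u}} (c : W ⟶ X) (o : X ⟶ Y) [IsOpenImmersion o]
    (hc : IsClosed (Set.range c)) : closure (Set.range (c ≫ o)) ∩ Set.range o ⊆ Set.range (c ≫ o) := by
  rintro _ ⟨hy, x, rfl⟩
  have h1 : Set.range (c ≫ o) = o '' Set.range c := by rw [← Set.range_comp]; rfl
  rw [h1] at hy ⊢
  have h2 : x ∈ o ⁻¹' closure (o '' Set.range c) := hy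
  rw [← o.isOpenEmbedding.isInducing.closure_eq_preimage_closure_image, hc.closure_eq] at h2
  exact ⟨x, h2, rfl⟩

/-- A section of a separated morphism has closed range. -/
theorem isClosed_range_section {X Y : Scheme.{u}} (s : X ⟶ Y) (q : Y ⟶ X) [IsSeparated q] (h : s ≫ q = 𝟙 X) :
    IsClosed (Set.range s) := by
  have h1 : IsClosedImmersion (s ≫ q) := by rw [h]; infer_instance
  have h2 : IsClosedImmersion s := IsClosedImmersion.of_comp s q
  exact s.isClosedEmbedding.isClosed_range

variable {k : Type u} [Field k] {G C Cc : Over (Spec (CommRingCat.of k))} [GrpObj G] [Smooth G.hom]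
  [QuasiCompact G.hom] [ConnectedSpace G.left] [IsSeparated C.hom] [LocallyOfFiniteType C.hom] [QuasiCompact C.hom]
  [IsProper Cc.hom] [IsIntegral Cc.left] (j : C ⟶ Cc) [IsOpenImmersion j.left] (a : AlgGrp.Action G C)

/-- The graph of the action. -/
noncomputable def γ : G ⊗ C ⟶ (G ⊗ Cc) ⊗ Cc := lift (G ◁ j) (a.act ≫ j)

instance isOpenImmersion_whiskerLeft (T : Over (Spec (CommRingCat.of k))) : IsOpenImmersion (T ◁ j).left :=
  MorphismProperty.of_isPullback (isPullback_whiskerLeft_left j T) inferInstance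

instance isOpenImmersion_whiskerRight (T : Over (Spec (CommRingCat.of k))) : IsOpenImmersion (j ▷ T).left :=
  MorphismProperty.of_isPullback (isPullback_whiskerRight_left j T) inferInstance

theorem range_fst_of_isPullback {P X Y Z : Scheme.{u}} {a : P ⟶ X} {b : P ⟶ Y} {f : X ⟶ Z} {g : Y ⟶ Z}
    (h : IsPullback a b f g) : Set.range a = f ⁻¹' Set.range g := by
  rw [← Scheme.Pullback.range_fst, ← h.isoPullback_hom_fst]
  ext x
  constructor
  · rintro ⟨y, rfl⟩
    exact ⟨h.isoPullback.hom y, rfl⟩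
  · rintro ⟨y, rfl⟩
    refine ⟨h.isoPullback.inv y, ?_⟩
    rw [← Scheme.Hom.comp_apply, Iso.inv_hom_id_assoc]

theorem range_whiskerRight {S : Scheme.{u}} {X Y : Over S} (f : X ⟶ Y) (T : Over S) :
    Set.range (f ▷ T).left = (fst Y T).left ⁻¹' Set.range f.left :=
  range_fst_of_isPullback (isPullback_whiskerRight_left f T).flip

theorem range_whiskerLeft {S : Scheme.{u}} {X Y : Over S} (f : X ⟶ Y) (T : Over S) :
    Set.range (T ◁ f).left = (snd T Y).left ⁻¹' Set.range f.left :=
  range_fst_of_isPullback (isPullback_whiskerLeft_left f T).flip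

/-- the graph is closed over `G ⊗ C`. -/
theorem closure_inter_one : closure (Set.range (γ j a).left) ∩ (fst (G ⊗ Cc) Cc).left ⁻¹' Set.range (G ◁ j).left ⊆
    Set.range (γ j a).left := by
  let γ1 : G ⊗ C ⟶ (G ⊗ C) ⊗ Cc := lift (𝟙 _) (a.act ≫ j)
  have h1 : γ j a = γ1 ≫ ((G ◁ j) ▷ Cc) := by
    apply CartesianMonoidalCategory.hom_ext
    · rw [γ, lift_fst, Category.assoc, whiskerRight_fst, lift_fst_assoc, Category.id_comp]
    · rw [γ, lift_snd, Category.assoc, whiskerRight_snd, lift_snd]
  have h2 : IsOpenImmersion ((G ◁ j) ▷ Cc).left :=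
    MorphismProperty.of_isPullback (isPullback_whiskerRight_left (G ◁ j) Cc) inferInstance
  have h3 : IsClosed (Set.range γ1.left) := by
    have : IsSeparated (fst (G ⊗ C) Cc).left := inferInstanceAs (IsSeparated (pullback.fst (G ⊗ C).hom Cc.hom))
    refine isClosed_range_section γ1.left (fst (G ⊗ C) Cc).left ?_
    rw [← Over.comp_left, lift_fst]
    rfl
  rw [← range_whiskerRight (G ◁ j) Cc, h1, Over.comp_left]
  exact closure_inter_range _ _ h3

/-- the graph is closed over `C` in the last coordinate. -/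
theorem closure_inter_two : closure (Set.range (γ j a).left) ∩ (snd (G ⊗ Cc) Cc).left ⁻¹' Set.range j.left ⊆
    Set.range (γ j a).left := by
  let γ2 : G ⊗ C ⟶ (G ⊗ Cc) ⊗ C := lift (G ◁ j) a.act
  have h1 : γ j a = γ2 ≫ ((G ⊗ Cc) ◁ j) := by
    apply CartesianMonoidalCategory.hom_ext
    · rw [γ, lift_fst, Category.assoc, whiskerLeft_fst, lift_fst]
    · rw [γ, lift_snd, Category.assoc, whiskerLeft_snd, lift_snd_assoc]
  have h2 : IsOpenImmersion ((G ⊗ Cc) ◁ j).left :=
    MorphismProperty.of_isPullback (isPullback_whiskerLeft_left j (G ⊗ Cc)) inferInstance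
  let θ : G ⊗ C ⟶ G ⊗ C := lift (fst G C) a.act
  let θ' : G ⊗ C ⟶ G ⊗ C := lift (fst G C) (sm a (fst G C)⁻¹ (snd G C))
  have hact : a.act = sm a (fst G C) (snd G C) := by rw [sm, lift_fst_snd, Category.id_comp]
  have hθ : θ ≫ θ' = 𝟙 _ := by
    apply CartesianMonoidalCategory.hom_ext
    · simp [θ, θ']
    · simp only [θ, θ', Category.assoc, lift_snd, comp_sm, GrpObj.comp_inv, lift_fst, Category.id_comp]
      rw [hact, ← mul_sm, inv_mul_cancel, one_sm]
  have hθ' : θ' ≫ θ = 𝟙 _ := by
    apply CartesianMonoidalCategory.hom_ext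
    · simp [θ, θ']
    · simp only [θ, θ', Category.assoc, lift_snd]
      rw [hact, comp_sm, lift_fst, lift_snd, ← mul_sm, mul_inv_cancel, one_sm, Category.id_comp]
  let γ3 : G ⊗ C ⟶ (G ⊗ Cc) ⊗ C := θ' ≫ γ2
  have h4 : γ2 = θ ≫ γ3 := by rw [← Category.assoc, hθ, Category.id_comp]
  let q : (G ⊗ Cc) ⊗ C ⟶ G ⊗ C := (fst G Cc) ▷ C
  have h5 : γ3 ≫ q = 𝟙 _ := by
    have h6 : γ2 ≫ q = θ := by
      apply CartesianMonoidalCategory.hom_ext <;> simp [γ2, q, θ]
    rw [Category.assoc, h6, hθ']
  have h3 : IsClosed (Set.range γ2.left) := by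
    have hs0 : IsSeparated (fst G Cc).left := inferInstanceAs (IsSeparated (pullback.fst G.hom Cc.hom))
    have hs : IsSeparated q.left := MorphismProperty.of_isPullback (isPullback_whiskerRight_left (fst G Cc) C) hs0
    have h6 : IsClosed (Set.range γ3.left) := by
      refine isClosed_range_section γ3.left q.left ?_
      rw [← Over.comp_left, h5]
      rfl
    have h7 : Set.range γ2.left = Set.range γ3.left := by
      ext y
      constructor
      · rintro ⟨x, rfl⟩
        exact ⟨θ.left x, by rw [← Scheme.Hom.comp_apply, ← Over.comp_left, ← h4]⟩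
      · rintro ⟨x, rfl⟩
        exact ⟨θ'.left x, by rw [← Scheme.Hom.comp_apply, ← Over.comp_left]⟩
    rw [h7]
    exact h6
  rw [← range_whiskerLeft j (G ⊗ Cc), h1, Over.comp_left]
  exact closure_inter_range _ _ h3

theorem quasiCompact_γ : QuasiCompact (γ j a).left := by
  have : QuasiCompact ((γ j a).left ≫ ((G ⊗ Cc) ⊗ Cc).hom) := by
    rw [Over.w]
    have : QuasiCompact (pullback.fst G.hom C.hom ≫ G.hom) := inferInstance
    exact this
  have hs : QuasiSeparated ((G ⊗ Cc) ⊗ Cc).hom := by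
    have h1 : LocallyOfFiniteType G.hom := inferInstance
    have h2 : LocallyOfFiniteType (pullback.fst (pullback.fst G.hom Cc.hom ≫ G.hom) Cc.hom ≫ (pullback.fst G.hom Cc.hom ≫ G.hom)) :=
      inferInstance
    have h3 : LocallyOfFiniteType ((G ⊗ Cc) ⊗ Cc).hom := h2
    have := LocallyOfFiniteType.isLocallyNoetherian ((G ⊗ Cc) ⊗ Cc).hom
    infer_instance
  exact QuasiCompact.of_comp (γ j a).left ((G ⊗ Cc) ⊗ Cc).hom

theorem image_of_embedding_discrete {X Y : Type*} [TopologicalSpace X] [TopologicalSpace Y] {f : X → Y}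
    (hf : IsEmbedding f) {s : Set X} (hs : IsDiscrete (f '' s)) : IsDiscrete s := by
  have h := hs.preimage (f := f) hf.continuous.continuousOn hf.injective
  rwa [Set.preimage_image_eq _ hf.injective] at h

/-- The projection of the closure of the graph. -/
theorem locallyQuasiFinite_proj {Z : Over (Spec (CommRingCat.of k))} (ζ : Z ⟶ Cc) [IsClosedImmersion ζ.left]
    [LocallyQuasiFinite Z.hom] (hζ : (Set.range j.left)ᶜ ⊆ Set.range ζ.left) :
    LocallyQuasiFinite ((γ j a).left.imageι ≫ (fst (G ⊗ Cc) Cc).left) := by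
  have hprop : IsProper (fst (G ⊗ Cc) Cc).left := inferInstanceAs (IsProper (pullback.fst (G ⊗ Cc).hom Cc.hom))
  have hqc := quasiCompact_γ j a
  rw [locallyQuasiFinite_iff_isDiscrete_preimage_singleton]
  intro t
  have hr : Set.range (γ j a).left.imageι = closure (Set.range (γ j a).left) := by
    rw [Scheme.IdealSheafData.range_subschemeι, Scheme.Hom.support_ker]
  refine image_of_embedding_discrete (γ j a).left.imageι.isEmbedding ?_
  have hsub : (γ j a).left.imageι '' (((γ j a).left.imageι ≫ (fst (G ⊗ Cc) Cc).left) ⁻¹' {t}) ⊆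
      closure (Set.range (γ j a).left) ∩ (fst (G ⊗ Cc) Cc).left ⁻¹' {t} := by
    rintro _ ⟨w, hw, rfl⟩
    refine ⟨?_, hw⟩
    rw [← hr]
    exact ⟨w, rfl⟩
  refine IsDiscrete.mono ?_ hsub
  have hcomp : γ j a ≫ fst (G ⊗ Cc) Cc = G ◁ j := by rw [γ, lift_fst]
  by_cases ht : t ∈ Set.range (G ◁ j).left
  · refine Set.Subsingleton.isDiscrete ?_
    rintro w ⟨hw1, hw2⟩ w' ⟨hw1', hw2'⟩
    rw [Set.mem_preimage, Set.mem_singleton_iff] at hw2 hw2'
    obtain ⟨v, rfl⟩ := closure_inter_one j a ⟨hw1, by rw [Set.mem_preimage, hw2]; exact ht⟩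
    obtain ⟨v', rfl⟩ := closure_inter_one j a ⟨hw1', by rw [Set.mem_preimage, hw2']; exact ht⟩
    rw [← Scheme.Hom.comp_apply, ← Over.comp_left, hcomp] at hw2 hw2'
    have : v = v' := (G ◁ j).left.isOpenEmbedding.injective (hw2.trans hw2'.symm)
    rw [this]
  · -- the fibre lies over `Z`
    have hci : IsClosedImmersion ((G ⊗ Cc) ◁ ζ).left :=
      MorphismProperty.of_isPullback (isPullback_whiskerLeft_left ζ (G ⊗ Cc)) inferInstance
    have hlqf : LocallyQuasiFinite (fst (G ⊗ Cc) Z).left :=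
      inferInstanceAs (LocallyQuasiFinite (pullback.fst (G ⊗ Cc).hom Z.hom))
    have hd := (fst (G ⊗ Cc) Z).left.isDiscrete_preimage (s := {t}) (Set.subsingleton_singleton.isDiscrete)
    have hd2 := hd.image ((G ⊗ Cc) ◁ ζ).left.isClosedEmbedding.isInducing
    refine hd2.mono ?_
    rintro w ⟨hw1, hw2⟩
    have h1 : w ∈ Set.range ((G ⊗ Cc) ◁ ζ).left := by
      rw [range_whiskerLeft]
      apply hζ
      intro h2
      obtain ⟨v, rfl⟩ := closure_inter_two j a ⟨hw1, h2⟩
      rw [Set.mem_preimage, Set.mem_singleton_iff, ← Scheme.Hom.comp_apply, ← Over.comp_left, hcomp] at hw2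
      exact ht ⟨v, hw2⟩
    obtain ⟨v, rfl⟩ := h1
    refine ⟨v, ?_, rfl⟩
    rw [Set.mem_preimage, ← Scheme.Hom.comp_apply, ← Over.comp_left, whiskerLeft_fst] at hw2
    exact hw2

theorem isIntegral_prod (hdense : DenseRange j.left) [GeometricallyIntegral C.hom] :
    IsIntegral (G ⊗ Cc).left := by
  have hGR : GeometricallyReduced G.hom := Groth.Agent.Flat2B.SmoothGeom.geometricallyReduced_of_smooth G.hom
  have hN : IsLocallyNoetherian Cc.left := LocallyOfFiniteType.isLocallyNoetherian Cc.hom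
  have hNG : IsLocallyNoetherian G.left := LocallyOfFiniteType.isLocallyNoetherian G.hom
  have hGI : IrreducibleSpace G.left := Groth.Agent.S0348.result k G
  have hIGC : IrreducibleSpace (G ⊗ C).left := inferInstanceAs (IrreducibleSpace (pullback G.hom C.hom : Scheme.{u}))
  have hRGC : IsReduced (G ⊗ Cc).left := inferInstanceAs (IsReduced (pullback G.hom Cc.hom))
  have hjd : IsDominant j.left := ⟨hdense⟩
  have hjs : IsSchemeTheoreticallyDominant j.left := .of_isDominant _
  have hqj : QuasiCompact j.left := inferInstance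
  have hd : IsDominant (G ◁ j).left := inferInstance
  have hirr : IrreducibleSpace (G ⊗ Cc).left := by
    have h1 : IsIrreducible (closure (Set.range (G ◁ j).left)) := by
      rw [← Set.image_univ]
      exact ((IrreducibleSpace.isIrreducible_univ _).image _ (G ◁ j).left.continuous.continuousOn).closure
    rw [(G ◁ j).left.denseRange.closure_eq] at h1
    exact (irreducibleSpace_def _).2 h1
  exact isIntegral_of_irreducibleSpace_of_isReduced _

/-- **Extension of the action morphism.** -/
theorem exists_ext (hN : Pi1.IsNormalScheme Cc.left) (hdense : DenseRange j.left) [GeometricallyIntegral C.hom]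
    {Z : Over (Spec (CommRingCat.of k))} (ζ : Z ⟶ Cc) [IsClosedImmersion ζ.left]
    [LocallyQuasiFinite Z.hom] (hζ : (Set.range j.left)ᶜ ⊆ Set.range ζ.left) :
    ∃ m : G ⊗ Cc ⟶ Cc, (G ◁ j) ≫ m = a.act ≫ j := by
  have hqc := quasiCompact_γ j a
  have hprop : IsProper (fst (G ⊗ Cc) Cc).left := inferInstanceAs (IsProper (pullback.fst (G ⊗ Cc).hom Cc.hom))
  let p := (γ j a).left.imageι ≫ (fst (G ⊗ Cc) Cc).left
  have hp1 : IsProper p := inferInstance
  have hp2 : LocallyQuasiFinite p := locallyQuasiFinite_proj j a ζ hζ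
  have hp3 : IsFinite p := .of_isProper_of_locallyQuasiFinite _
  have hI1 : IsIntegral (G ⊗ Cc).left := isIntegral_prod j hdense
  have hCI : IsIntegral C.left := GeometricallyIntegral.isIntegral_of_subsingleton C.hom
  have hI0 : IsIntegral (G ⊗ C).left := by
    have hGR : GeometricallyReduced G.hom := Groth.Agent.Flat2B.SmoothGeom.geometricallyReduced_of_smooth G.hom
    have hN : IsLocallyNoetherian C.left := LocallyOfFiniteType.isLocallyNoetherian C.hom
    have hNG : IsLocallyNoetherian G.left := LocallyOfFiniteType.isLocallyNoetherian G.hom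
    have hGI : IrreducibleSpace G.left := Groth.Agent.S0348.result k G
    have hIGC : IrreducibleSpace (G ⊗ C).left := inferInstanceAs (IrreducibleSpace (pullback G.hom C.hom : Scheme.{u}))
    have hRGC : IsReduced (G ⊗ C).left := inferInstanceAs (IsReduced (pullback G.hom C.hom))
    exact isIntegral_of_irreducibleSpace_of_isReduced _
  have hI2 : IsIntegral (γ j a).left.image := Groth.Agent.Ega2.Normal.isIntegral_image (γ j a).left
  have hcomp : γ j a ≫ fst (G ⊗ Cc) Cc = G ◁ j := by rw [γ, lift_fst]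
  have hs : (γ j a).left.toImage ≫ p = (G ◁ j).left := by
    rw [← Category.assoc, Scheme.Hom.toImage_imageι, ← Over.comp_left, hcomp]
  have hso : IsOpenImmersion ((γ j a).left.toImage ≫ p) := by rw [hs]; infer_instance
  have hNp : Pi1.IsNormalScheme (G ⊗ Cc).left := by
    have : Smooth (snd G Cc).left := inferInstanceAs (Smooth (pullback.snd G.hom Cc.hom))
    exact Groth.Agent.Ega4dA.SmoothStalk.stalk_of_smooth hN (snd G Cc).left
  have hiso : IsIso p := Groth.Agent.Ega2.Normal.isIso_of_isOpenImmersion_comp hNp p (γ j a).left.toImage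
  let m0 : (G ⊗ Cc).left ⟶ Cc.left := inv p ≫ (γ j a).left.imageι ≫ (snd (G ⊗ Cc) Cc).left
  have hm0 : m0 ≫ Cc.hom = (G ⊗ Cc).hom := by
    have h1 : (snd (G ⊗ Cc) Cc).left ≫ Cc.hom = (fst (G ⊗ Cc) Cc).left ≫ (G ⊗ Cc).hom := by
      rw [Over.w, Over.w]
    simp only [m0, Category.assoc]
    rw [h1, IsIso.inv_comp_eq]
    simp only [p, Category.assoc]
  refine ⟨Over.homMk m0 hm0, ?_⟩
  ext1
  have h2 : (γ j a).left.toImage = (G ◁ j).left ≫ inv p := by
    rw [← hs, Category.assoc, IsIso.hom_inv_id, Category.comp_id]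
  change (G ◁ j).left ≫ m0 = _
  simp only [m0]
  rw [← Category.assoc, ← h2, Scheme.Hom.toImage_imageι_assoc, ← Over.comp_left, γ, lift_snd]

end K403.ExtAct
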