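import Groth.Agent.AlgGrp.K403.Act2
import Groth.Agent.AlgGrp.K403.Dense

/-! Descending an action along a quotient homomorphism. -/

set_option autoImplicit false
universe u
open CategoryTheory MonoidalCategory CartesianMonoidalCategory MonObj GrpObj AlgebraicGeometry Limits
open Groth.Agent.Books.BorelOrb K403.Act K403.Dense Groth.Agent.Agf.H584.QBasic

namespace K403.QuotAct

theorem action_ext {S : Scheme.{u}} {G X : Over S} [GrpObj G] {a b : AlgGrp.Action G X} (h : a.act = b.act) : a = b := by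
  cases a; cases b; cases h; rfl

/-- an action from the action on points -/
noncomputable def mkAction {S : Scheme.{u}} {Q X : Over S} [GrpObj Q] (act : Q ⊗ X ⟶ X)
    (h1 : ∀ {T : Over S} (x : T ⟶ X), lift (1 : T ⟶ Q) x ≫ act = x)
    (h2 : ∀ {T : Over S} (g h : T ⟶ Q) (x : T ⟶ X), lift (g * h) x ≫ act = lift g (lift h x ≫ act) ≫ act) :
    AlgGrp.Action Q X where
  act := act
  one_act := by
    have := h1 (snd (𝟙_ (Over S)) X)
    rw [leftUnitor_hom, ← this]
    congr 1
  mul_act := by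
    have := h2 (fst (Q ⊗ Q) X ≫ fst Q Q) (fst (Q ⊗ Q) X ≫ snd Q Q) (snd (Q ⊗ Q) X)
    have e1 : lift ((fst (Q ⊗ Q) X ≫ fst Q Q) * (fst (Q ⊗ Q) X ≫ snd Q Q)) (snd (Q ⊗ Q) X) = μ[Q] ▷ X := by
      apply CartesianMonoidalCategory.hom_ext
      · rw [lift_fst, ← comp_mul, ← MonObj.mul_eq_mul, whiskerRight_fst]
      · simp
    have e2 : lift (fst (Q ⊗ Q) X ≫ fst Q Q) (lift (fst (Q ⊗ Q) X ≫ snd Q Q) (snd (Q ⊗ Q) X) ≫ act) =
        (α_ Q Q X).hom ≫ (Q ◁ act) := by
      apply CartesianMonoidalCategory.hom_ext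
      · simp
      · simp only [lift_snd, Category.assoc, whiskerLeft_snd]
        rw [← Category.assoc]
        congr 1
        apply CartesianMonoidalCategory.hom_ext <;> simp
    rw [e1, e2, Category.assoc] at this
    exact this

variable {k : Type u} [Field k] {G N Q X : Over (Spec (CommRingCat.of k))} [GrpObj G] [QuasiCompact G.hom]
  [GrpObj Q] [LocallyOfFiniteType Q.hom] (π : G ⟶ Q) [IsMonHom π] [Flat π.left] [Surjective π.left]

omit [GrpObj G] [GrpObj Q] [IsMonHom π] [Flat (Over.Hom.left π)] [Surjective (Over.Hom.left π)] in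
theorem qc : QuasiCompact π.left := quasiCompact_left π

omit [GrpObj G] [GrpObj Q] [IsMonHom π] in
theorem epi_whisker (X : Over (Spec (CommRingCat.of k))) : Epi (π ▷ X) := by
  have := qc π
  exact epi_of (π ▷ X)

omit [Flat π.left] [Surjective π.left] [QuasiCompact G.hom] [LocallyOfFiniteType Q.hom] in
theorem exists_mul {n : N ⟶ G} (hker : AlgGrp.IsKernel n π) {T : Over (Spec (CommRingCat.of k))} (g g' : T ⟶ G)
    (h : g ≫ π = g' ≫ π) : ∃ m : T ⟶ N, g' = g * (m ≫ n) := by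
  have h4 : (g⁻¹ * g') ≫ π = toUnit T ≫ η[Q] := by
    rw [MonObj.mul_comp, GrpObj.inv_comp, h, inv_mul_cancel]
    rfl
  obtain ⟨m, hm, -⟩ := hker.exists_lift (g⁻¹ * g') (toUnit T) h4
  exact ⟨m, by rw [hm, mul_inv_cancel_left]⟩

/-- the quotient action -/
theorem exists_quotAct (a : AlgGrp.Action G X) {n : N ⟶ G} (hker : AlgGrp.IsKernel n π)
    (hn : Triv a n) : ∃ b : AlgGrp.Action Q X, (π ▷ X) ≫ b.act = a.act := by
  have := qc π
  obtain ⟨β, hβ⟩ := exists_desc (π ▷ X) a.act (by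
    intro T g g' hg
    have h1 : g ≫ fst G X ≫ π = g' ≫ fst G X ≫ π := by
      have := congrArg (fun z => z ≫ fst Q X) hg
      simpa using this
    have h2 : g ≫ snd G X = g' ≫ snd G X := by
      have := congrArg (fun z => z ≫ snd Q X) hg
      simpa using this
    rw [← Category.assoc, ← Category.assoc] at h1
    obtain ⟨m, hm⟩ := exists_mul π hker _ _ h1
    have h3 : ∀ g : T ⟶ G ⊗ X, g ≫ a.act = sm a (g ≫ fst G X) (g ≫ snd G X) := by
      intro g
      rw [sm, ← comp_lift, lift_fst_snd, Category.comp_id]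
    rw [h3 g, h3 g', hm, mul_sm, ← h2, hn])
  have hβ' : ∀ {T : Over (Spec (CommRingCat.of k))} (g : T ⟶ G) (x : T ⟶ X), lift (g ≫ π) x ≫ β = sm a g x := by
    intro T g x
    rw [sm, ← hβ, ← Category.assoc, lift_whiskerRight]
  refine ⟨mkAction β ?_ ?_, hβ⟩
  · intro T x
    have : (1 : T ⟶ Q) = (1 : T ⟶ G) ≫ π := by rw [MonObj.one_comp]
    rw [this, hβ', one_sm]
  · intro T g h x
    obtain ⟨T', c, g', hc, _, _, _, hcg⟩ := exists_cover π g
    obtain ⟨T'', c', h', hc', -, -, -, hch⟩ := exists_cover π (c ≫ h)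
    have hc'' : Epi (c' ≫ c) := epi_comp _ _
    rw [← cancel_epi (c' ≫ c)]
    simp only [← Category.assoc, comp_lift, comp_mul]
    simp only [Category.assoc]
    have e1 : c' ≫ c ≫ g = (c' ≫ g') ≫ π := by rw [hcg, Category.assoc]
    rw [e1, hch, ← MonObj.mul_comp, hβ', mul_sm, hβ', hβ']

omit [GrpObj G] [GrpObj Q] [IsMonHom π] [QuasiCompact G.hom] [LocallyOfFiniteType Q.hom] [Flat (Over.Hom.left π)] [Surjective (Over.Hom.left π)] in
theorem comp_graph {a : (G ⊗ X) ⟶ X} {b : (Q ⊗ X) ⟶ X} (h : (π ▷ X) ≫ b = a) :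
    lift (snd G X) a = (π ▷ X) ≫ lift (snd Q X) b := by
  rw [comp_lift, h]
  congr 1
  simp

end K403.QuotAct
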