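import Groth.Agent.AlgGrp.K403.Act2
import Groth.Agent.AlgGrp.K403.QuotAct
import Groth.Agent.AlgGrp.K403.Dense
import Groth.Agent.AlgGrp.K413.EqLocus
import Groth.Agent.AlgGrp.K404.QuoKit
import Groth.Agent.Sga3C.SubGrp

/-! The kernel of an action on a separated scheme over a field exists (closed, normal), and the quotient by it
acts faithfully. -/

set_option autoImplicit false
universe u
open CategoryTheory MonoidalCategory CartesianMonoidalCategory MonObj GrpObj AlgebraicGeometry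
open Groth.Agent.Books.BorelOrb K403.Act K403.Dense K403.QuotAct

namespace K403.KerAct

variable {k : Type u} [Field k] {G X : Over (Spec (CommRingCat.of k))} [GrpObj G] [IsSeparated X.hom]
  (a : AlgGrp.Action G X)

/-- The kernel of an action. -/
theorem exists_kernel :
    ∃ (N : Over (Spec (CommRingCat.of k))) (_ : GrpObj N) (n : N ⟶ G), IsMonHom n ∧ IsClosedImmersion n.left ∧
      AlgGrp.IsNormalHom n ∧ ∀ (T : Over (Spec (CommRingCat.of k))) (g : T ⟶ G), (∃ m : T ⟶ N, m ≫ n = g) ↔ Triv a g := by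
  obtain ⟨N, n, hn, h⟩ := K413.EqLocus.exists_closed (X := G) (Y := X) (W := X)
    (lift (snd X G) (fst X G) ≫ a.act) (fst X G)
  have h' : ∀ (T : Over (Spec (CommRingCat.of k))) (g : T ⟶ G), (∃ m : T ⟶ N, m ≫ n = g) ↔ Triv a g := by
    intro T g
    rw [h T g]
    constructor
    · intro h1
      apply triv_of_univ
      have h2 := congrArg (fun z => lift (snd T X) (fst T X) ≫ z) h1
      simp only [← Category.assoc, lift_whiskerLeft, comp_lift, lift_fst, lift_snd] at h2
      exact h2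
    · intro h1
      have h2 := h1 (X ⊗ T) (snd X T) (fst X T)
      simp only [sm] at h2
      rw [← Category.assoc, comp_lift, whiskerLeft_snd, whiskerLeft_fst, h2]
  have hmono : Mono n := inferInstance
  have hmem : ∀ {T : Over (Spec (CommRingCat.of k))} (m : T ⟶ N), Triv a (m ≫ n) := fun m => (h' _ _).1 ⟨m, rfl⟩
  obtain ⟨iN, hiN⟩ := Groth.Agent.Sga3C.SubGrp.exists_grpObj_of_mono n
    (by
      refine (h' _ _).2 ?_
      have h1 : (n ⊗ₘ n) ≫ μ[G] = (fst N N ≫ n) * (snd N N ≫ n) := by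
        rw [Hom.mul_def]
        congr 1
      rw [h1]
      exact (hmem _).mul a (hmem _))
    (by
      refine (h' _ _).2 ?_
      have h1 : η[G] = (1 : 𝟙_ _ ⟶ G) := MonObj.one_eq_one G
      rw [h1]
      exact Triv.one a)
    (by
      refine (h' _ _).2 ?_
      have h1 : n ≫ ι[G] = n⁻¹ := by
        rw [Hom.inv_def]
      rw [h1]
      exact Triv.inv a (by simpa using hmem (𝟙 N)))
  refine ⟨N, iN, n, hiN, hn, ?_, h'⟩
  intro T g m
  obtain ⟨n', hn'⟩ := (h' T (g * (m ≫ n) * g⁻¹)).2 ((hmem m).conj a g)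
  exact ⟨n', hn'.symm⟩

/-- Faithful quotient. -/
theorem exists_faithful [Smooth G.hom] [QuasiCompact G.hom] :
    ∃ (Q : Over (Spec (CommRingCat.of k))) (_ : GrpObj Q) (π : G ⟶ Q) (b : AlgGrp.Action Q X), IsMonHom π ∧
      Flat π.left ∧ Surjective π.left ∧ Smooth Q.hom ∧ QuasiCompact Q.hom ∧ IsSeparated Q.hom ∧
      (π ▷ X) ≫ b.act = a.act ∧ ∀ {T : Over (Spec (CommRingCat.of k))} (q : T ⟶ Q), Triv b q → q = 1 := by
  obtain ⟨N, iN, n, hn1, hn2, hn3, hN⟩ := exists_kernel a
  obtain ⟨Q, iQ, π, hπ, hfl, hsurj, hlfp, hker, hQ1, hQ2, hQ3, hQ4, -⟩ := K404.QuoKit.exists_quotient k G N n hn3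
  have htriv : Triv a n := (hN N n).1 ⟨𝟙 N, Category.id_comp _⟩
  have hqc : QuasiCompact π.left := qc π
  have hepi : Epi (π ▷ X) := epi_whisker π X
  obtain ⟨b, hb⟩ := exists_quotAct π a hker htriv
  refine ⟨Q, iQ, π, b, hπ, hfl, hsurj, hQ4 inferInstance, hQ2, hQ3, hb, ?_⟩
  intro T q hq
  obtain ⟨T', c, g, hc, -, -, -, hcg⟩ := exists_cover π q
  have h1 : Triv b (c ≫ q) := Triv.comp b hq c
  have h2 : Triv a g := by
    intro T'' s x
    have h3 := h1 T'' s x
    rw [hcg] at h3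
    rw [sm] at h3 ⊢
    rw [← hb, ← Category.assoc, lift_whiskerRight]
    simpa only [Category.assoc] using h3
  obtain ⟨m, hm⟩ := (hN T' g).2 h2
  rw [← cancel_epi c, hcg, ← hm, Category.assoc, hker.w, MonObj.comp_one]
  rw [← Category.assoc]
  have : m ≫ toUnit N = toUnit T' := toUnit_unique _ _
  rw [this]
  rfl

end K403.KerAct
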