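import Groth.Agent.AlgGrp.K403.Orbits2

/-! Orbits of geometric points, almost homogeneity, continued. -/

set_option autoImplicit false
universe u
open CategoryTheory MonoidalCategory CartesianMonoidalCategory MonObj GrpObj AlgebraicGeometry Limits Topology
open Groth.Agent.Books.BorelOrb K403.Act K403.GeomPts K403.Dense

namespace K403.Orbits

variable {k : Type u} [Field k] {K : Type u} [Field K] [Algebra k K]
variable {X : Over (Spec (CommRingCat.of k))}
variable {G : Over (Spec (CommRingCat.of k))} [GrpObj G] (a : AlgGrp.Action G X)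

/-- the graph morphism -/
noncomputable abbrev gr : G ⊗ X ⟶ X ⊗ X := lift (snd G X) a.act

/-- `X ⊗ KK → X ⊗ X`, `(x, s) ↦ (z(s), x)`. -/
noncomputable def slice (z : KK k K ⟶ X) : X ⊗ KK k K ⟶ X ⊗ X :=
  lift (snd X (KK k K) ≫ z) (fst X (KK k K))

theorem isPullback_slice (z : KK k K ⟶ X) : IsPullback (orb a z) (G ◁ z) (slice z) (gr a) where
  w := by
    apply CartesianMonoidalCategory.hom_ext
    · simp [orb, slice, gr]
    · simp only [orb, slice, gr, Category.assoc, lift_snd, lift_fst, sm]
      congr 1
  isLimit' := ⟨PullbackCone.IsLimit.mk _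
    (fun s => lift (s.snd ≫ fst G X) (s.fst ≫ snd X (KK k K)))
    (fun s => by
      have h1 : s.snd ≫ snd G X = s.fst ≫ snd X (KK k K) ≫ z := by
        have := congrArg (fun q => q ≫ fst X X) s.condition
        simpa [slice, gr] using this.symm
      have h2 : s.snd ≫ a.act = s.fst ≫ fst X (KK k K) := by
        have := congrArg (fun q => q ≫ snd X X) s.condition
        simpa [slice, gr] using this.symm
      apply CartesianMonoidalCategory.hom_ext
      · simp only [orb, Category.assoc, lift_fst, comp_sm, lift_snd_assoc]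
        rw [← h1, ← h2, sm, ← comp_lift, lift_fst_snd, Category.comp_id]
      · simp [orb])
    (fun s => by
      have h1 : s.snd ≫ snd G X = s.fst ≫ snd X (KK k K) ≫ z := by
        have := congrArg (fun q => q ≫ fst X X) s.condition
        simpa [slice, gr] using this.symm
      apply CartesianMonoidalCategory.hom_ext
      · simp
      · simp [h1])
    (fun s m h1 h2 => by
      apply CartesianMonoidalCategory.hom_ext
      · simp [← h2]
      · simp [← h1, orb])⟩

theorem isPullback_slice_left (z : KK k K ⟶ X) :
    IsPullback (orb a z).left (G ◁ z).left (slice z).left (gr a).left :=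
  (isPullback_slice a z).map (Over.forget _)

theorem range_fst_of_isPullback {P X Y Z : Scheme.{u}} {a : P ⟶ X} {b : P ⟶ Y} {f : X ⟶ Z} {g : Y ⟶ Z}
    (h : IsPullback a b f g) : Set.range a = f ⁻¹' Set.range g := by
  rw [← Scheme.Pullback.range_fst, ← h.isoPullback_hom_fst]
  ext x
  constructor
  · rintro ⟨y, rfl⟩
    exact ⟨h.isoPullback.hom y, rfl⟩
  · rintro ⟨y, rfl⟩
    refine ⟨h.isoPullback.inv y, ?_⟩
    rw [← Scheme.Hom.comp_apply, Iso.inv_hom_id_assoc]

theorem range_orb (z : KK k K ⟶ X) :
    Set.range (orb a z).left = (slice z).left ⁻¹' Set.range (gr a).left := by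
  rw [range_fst_of_isPullback (isPullback_slice_left a z)]

theorem isPullback_slice_fst (z : KK k K ⟶ X) : IsPullback (slice z) (snd X (KK k K)) (fst X X) z where
  w := by simp [slice]
  isLimit' := ⟨PullbackCone.IsLimit.mk _ (fun s => lift (s.fst ≫ snd X X) s.snd)
    (fun s => by
      have h1 := s.condition
      apply CartesianMonoidalCategory.hom_ext
      · simp [slice, h1]
      · simp [slice])
    (fun s => by simp)
    (fun s m h1 h2 => by
      apply CartesianMonoidalCategory.hom_ext
      · simp [← h1, slice]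
      · simp [← h2])⟩

theorem isPullback_slice_fst_left (z : KK k K ⟶ X) :
    IsPullback (slice z).left (snd X (KK k K)).left (fst X X).left z.left :=
  (isPullback_slice_fst z).map (Over.forget _)

theorem surjective_orb (h : Surjective (gr a).left) (z : KK k K ⟶ X) : Surjective (orb a z).left :=
  MorphismProperty.of_isPullback (isPullback_slice_left a z).flip h

variable [IsAlgClosed K] [LocallyOfFiniteType X.hom] [LocallyOfFiniteType G.hom] [QuasiCompact G.hom]

instance lft_prod {Y Z : Over (Spec (CommRingCat.of k))} [LocallyOfFiniteType Y.hom] [LocallyOfFiniteType Z.hom] :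
    LocallyOfFiniteType (Y ⊗ Z).hom := by
  have : LocallyOfFiniteType (pullback.fst Y.hom Z.hom ≫ Y.hom) := inferInstance
  exact this

instance qc_prod {Y Z : Over (Spec (CommRingCat.of k))} [QuasiCompact Y.hom] [QuasiCompact Z.hom] :
    QuasiCompact (Y ⊗ Z).hom := by
  have : QuasiCompact (pullback.fst Y.hom Z.hom ≫ Y.hom) := inferInstance
  exact this

instance geomIrred_prod {Y Z : Over (Spec (CommRingCat.of k))} [GeometricallyIrreducible Y.hom]
    [GeometricallyIrreducible Z.hom] [LocallyOfFiniteType Y.hom] :
    GeometricallyIrreducible (Y ⊗ Z).hom := by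
  have h1 : GeometricallyIrreducible (pullback.snd Y.hom Z.hom ≫ Z.hom) := by
    have : Flat Y.hom := inferInstance
    have : LocallyOfFinitePresentation Y.hom := by
      have : IsLocallyNoetherian (Spec (CommRingCat.of k)) := inferInstance
      infer_instance
    have : UniversallyOpen Y.hom := inferInstance
    exact GeometricallyIrreducible.comp _ _
  have h2 : (Y ⊗ Z).hom = pullback.snd Y.hom Z.hom ≫ Z.hom := (Over.w (snd Y Z)).symm
  rw [h2]
  exact h1

omit [LocallyOfFiniteType X.hom] in
theorem irr_prod_KK (Y : Over (Spec (CommRingCat.of k))) [GeometricallyIrreducible Y.hom] (K : Type u) [Field K] [Algebra k K] :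
    IrreducibleSpace (Y ⊗ KK k K).left := by
  have h : GeometricallyIrreducible (snd Y (KK k K)).left :=
    inferInstanceAs (GeometricallyIrreducible (pullback.snd Y.hom (KK k K).hom))
  have : Nonempty (KK k K).left := ⟨pt0 k K⟩
  exact GeometricallyIrreducible.irreducibleSpace_of_subsingleton (snd Y (KK k K)).left

omit [IsAlgClosed K] in
/-- the graph is dominant iff some orbit is dense: there is a nonempty open of `X` all of whose `K`-points have dense
orbits. -/
theorem exists_open_of_isDominant_gr [GeometricallyIrreducible X.hom] [QuasiCompact X.hom] (h : IsDominant (gr a).left) :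
    ∃ V : X.left.Opens, (V : Set X.left).Nonempty ∧
      ∀ z : KK k K ⟶ X, z.left (pt0 k K) ∈ V → IsDominant (orb a z).left := by
  have hN : IsLocallyNoetherian (X ⊗ X).left := LocallyOfFiniteType.isLocallyNoetherian (X ⊗ X).hom
  have hI : IrreducibleSpace (X ⊗ X).left := by
    have : Subsingleton (Spec (CommRingCat.of k)) := inferInstanceAs (Subsingleton (PrimeSpectrum k))
    have : Nonempty (Spec (CommRingCat.of k)) := inferInstanceAs (Nonempty (PrimeSpectrum k))
    exact GeometricallyIrreducible.irreducibleSpace_of_subsingleton (X ⊗ X).hom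
  have hlft : LocallyOfFiniteType (gr a).left := by
    have : LocallyOfFiniteType ((gr a).left ≫ (X ⊗ X).hom) := by rw [Over.w]; infer_instance
    exact locallyOfFiniteType_of_comp (gr a).left (X ⊗ X).hom
  have hqc : QuasiCompact (gr a).left := by
    have : QuasiCompact ((gr a).left ≫ (X ⊗ X).hom) := by rw [Over.w]; infer_instance
    exact QuasiCompact.of_comp (gr a).left (X ⊗ X).hom
  have hc : IsLocallyConstructible (Set.range (gr a).left) := by
    rw [← Set.image_univ]
    exact (gr a).left.isLocallyConstructible_image .univ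
  obtain ⟨I, hIo, hIne, hIs⟩ := exists_open_subset hc h.1
  have hopen : IsOpenMap (fst X X).left := by
    have : LocallyOfFinitePresentation X.hom := inferInstance
    have : UniversallyOpen X.hom := inferInstance
    exact (pullback.fst X.hom X.hom).isOpenMap
  refine ⟨⟨_, hopen _ hIo⟩, hIne.image _, ?_⟩
  rintro z ⟨y, hy, hyz⟩
  obtain ⟨w, hw⟩ : ∃ w, (slice z).left w = y := by
    have := range_fst_of_isPullback (isPullback_slice_fst_left z)
    have h1 : y ∈ Set.range (slice z).left := by
      rw [this]
      exact ⟨pt0 k K, hyz.symm⟩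
    exact h1
  have hirr := irr_prod_KK X K
  have h2 : Dense ((slice z).left ⁻¹' I) :=
    IsOpen.dense (hIo.preimage (slice z).left.continuous) ⟨w, by rw [Set.mem_preimage, hw]; exact hy⟩
  refine ⟨h2.mono ?_⟩
  rw [range_orb]
  exact Set.preimage_mono hIs

/-- every `K`-point lies in `V` for a suitable one -/
theorem exists_pt_mem (V : X.left.Opens) (hV : (V : Set X.left).Nonempty) : ∃ z : KK k K ⟶ X, z.left (pt0 k K) ∈ V := by
  have : JacobsonSpace X.left := LocallyOfFiniteType.jacobsonSpace X.hom
  obtain ⟨x, hx, hxc⟩ := nonempty_inter_closedPoints hV V.isOpen.isLocallyClosed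
  obtain ⟨z, hz⟩ := exists_pt_of_isClosed K x hxc
  exact ⟨z, by rw [hz]; exact hx⟩

/-- If some orbit is dense then the graph morphism is dominant. -/
theorem isDominant_gr_of_orb [GeometricallyIrreducible X.hom] (z : KK k K ⟶ X)
    (h : IsDominant (orb a z).left) : IsDominant (gr a).left := by
  have hirr := irr_prod_KK X K
  have hirr2 := irr_prod_KK (X ⊗ X) K
  obtain ⟨U, hU, hUne, hUs⟩ := exists_open_subset (isLocallyConstructible_orb a z) h.1
  have hJ := jacobson K (X ⊗ X)
  refine ⟨?_⟩
  by_contra hne
  have hO : IsOpen (closure (Set.range (gr a).left))ᶜ := isClosed_closure.isOpen_compl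
  have hOne : ((closure (Set.range (gr a).left))ᶜ).Nonempty := by
    rw [Set.nonempty_compl]
    intro h
    exact hne (dense_iff_closure_eq.2 h)
  have hs0 : Surjective (fst (X ⊗ X) (KK k K)).left := by
    have : Surjective (KK k K).hom := by
      refine ⟨fun y => ⟨pt0 k K, ?_⟩⟩
      have : Subsingleton (Spec (CommRingCat.of k)) := inferInstanceAs (Subsingleton (PrimeSpectrum k))
      exact Subsingleton.elim _ _
    exact inferInstanceAs (Surjective (pullback.fst (X ⊗ X).hom (KK k K).hom))
  have hXs : Surjective X.hom := inferInstance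
  have hs1 : Surjective ((fst X X) ▷ KK k K).left := by
    have : Surjective (fst X X).left := inferInstanceAs (Surjective (pullback.fst X.hom X.hom))
    infer_instance
  have hs2 : Surjective ((snd X X) ▷ KK k K).left := by
    have : Surjective (snd X X).left := inferInstanceAs (Surjective (pullback.snd X.hom X.hom))
    infer_instance
  have hne0 : ((fst (X ⊗ X) (KK k K)).left ⁻¹' (closure (Set.range (gr a).left))ᶜ).Nonempty :=
    hOne.preimage hs0.surj
  have hne1 : (((fst X X) ▷ KK k K).left ⁻¹' U).Nonempty := hUne.preimage hs1.surj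
  have hne2 : (((snd X X) ▷ KK k K).left ⁻¹' U).Nonempty := hUne.preimage hs2.surj
  have ho0 : IsOpen ((fst (X ⊗ X) (KK k K)).left ⁻¹' (closure (Set.range (gr a).left))ᶜ) :=
    hO.preimage (fst (X ⊗ X) (KK k K)).left.continuous
  have ho1 : IsOpen (((fst X X) ▷ KK k K).left ⁻¹' U) := hU.preimage (Scheme.Hom.continuous _)
  have ho2 : IsOpen (((snd X X) ▷ KK k K).left ⁻¹' U) := hU.preimage (Scheme.Hom.continuous _)
  obtain ⟨w, ⟨hw1, hw2, hw3⟩, hwc⟩ := nonempty_inter_closedPoints
    (nonempty_preirreducible_inter ho0 (ho1.inter ho2) hne0 (nonempty_preirreducible_inter ho1 ho2 hne1 hne2))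
    (ho0.inter (ho1.inter ho2)).isLocallyClosed
  obtain ⟨y, rfl⟩ := exists_sec K w hwc
  have e1 : sec y ≫ ((fst X X) ▷ KK k K) = sec (y ≫ fst X X) := by
    apply CartesianMonoidalCategory.hom_ext <;> simp
  have e2 : sec y ≫ ((snd X X) ▷ KK k K) = sec (y ≫ snd X X) := by
    apply CartesianMonoidalCategory.hom_ext <;> simp
  have f1 : (sec (y ≫ fst X X)).left (pt0 k K) ∈ Set.range (orb a z).left := by
    rw [← e1]
    exact hUs hw2
  have f2 : (sec (y ≫ snd X X)).left (pt0 k K) ∈ Set.range (orb a z).left := by
    rw [← e2]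
    exact hUs hw3
  rw [sec_mem_range_orb_iff] at f1 f2
  obtain ⟨g, hg⟩ := f1
  obtain ⟨g', hg'⟩ := f2
  have hy : lift (g' * g⁻¹) (y ≫ fst X X) ≫ gr a = y := by
    apply CartesianMonoidalCategory.hom_ext
    · simp [gr]
    · rw [Category.assoc, gr, lift_snd]
      change sm a _ _ = _
      rw [← hg, ← mul_sm, _root_.inv_mul_cancel_right, hg']
  refine hw1 (subset_closure ⟨(lift (g' * g⁻¹) (y ≫ fst X X)).left (pt0 k K), ?_⟩)
  rw [← Scheme.Hom.comp_apply, ← Over.comp_left, hy, ← Scheme.Hom.comp_apply, ← Over.comp_left, lift_fst]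

/-- transitivity on `K`-points gives homogeneity -/
theorem surjective_gr_of_pts [QuasiCompact X.hom] (h : ∀ x y : KK k K ⟶ X, ∃ g : KK k K ⟶ G, sm a g x = y) :
    Surjective (gr a).left := by
  refine surjective_of_pts K _ ?_
  intro y
  obtain ⟨g, hg⟩ := h (y ≫ fst X X) (y ≫ snd X X)
  refine ⟨lift g (y ≫ fst X X), ?_⟩
  apply CartesianMonoidalCategory.hom_ext
  · simp
  · rw [Category.assoc, gr, lift_snd]
    exact hg

omit [QuasiCompact G.hom] in
/-- homogeneity gives transitivity on `K`-points -/
theorem exists_sm_of_surjective_gr (h : Surjective (gr a).left) (x y : KK k K ⟶ X) :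
    ∃ g : KK k K ⟶ G, sm a g x = y := by
  obtain ⟨p, hp⟩ := exists_lift_of_surjective K (gr a) (lift x y)
  have hx : p ≫ snd G X = x := by
    have := congrArg (fun z => z ≫ fst X X) hp
    simpa using this
  have hy : p ≫ a.act = y := by
    have := congrArg (fun z => z ≫ snd X X) hp
    simpa using this
  refine ⟨p ≫ fst G X, ?_⟩
  rw [← hy, ← hx, sm, ← comp_lift, lift_fst_snd, Category.comp_id]

end K403.Orbits
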