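import Groth.Agent.AlgGrp.K403.P1Aut
import Groth.Agent.AlgGrp.K403.Dense
import Mathlib.RingTheory.PowerSeries.Inverse
import Mathlib.RingTheory.PowerSeries.NoZeroDivisors
import Mathlib.AlgebraicGeometry.Morphisms.SchemeTheoreticallyDominant

/-! Automorphisms of the projective line fixing a subscheme of length three. -/

set_option autoImplicit false
universe u
open CategoryTheory AlgebraicGeometry Limits TopologicalSpace Opposite

namespace K403.P1Fix

open Groth.Agent.Sga4h.H276.P1

variable {K : Type u} [Field K]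

/-- ring homs from Laurent polynomials given by units. -/
noncomputable def lau {B : Type u} [CommRing B] [Algebra K B] (v : Bˣ) : LaurentPolynomial K →+* B :=
  (LaurentPolynomial.eval₂ (algebraMap K B) v)

/-- the point of the chart given by an element -/
noncomputable def cp (i : Fin (1 + 1)) {B : Type u} [CommRing B] [Algebra K B] (b : B) :
    Spec (CommRingCat.of B) ⟶ CohB1.ProjSpace 1 K :=
  Spec.map (CommRingCat.ofHom (Polynomial.aeval (R := K) b).toRingHom) ≫ ch K i

theorem sp_lau_zero {B : Type u} [CommRing B] [Algebra K B] (v : Bˣ) :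
    Spec.map (CommRingCat.ofHom (lau (K := K) v)) ≫ u K 0 =
      Spec.map (CommRingCat.ofHom (Polynomial.aeval (R := K) (v : B)).toRingHom) := by
  rw [u, ← Spec.map_comp, ← CommRingCat.ofHom_comp]
  congr 2
  apply Polynomial.ringHom_ext
  · intro a
    simp [lau, ur]
  · simp [lau, ur]

theorem sp_lau_one {B : Type u} [CommRing B] [Algebra K B] (v : Bˣ) :
    Spec.map (CommRingCat.ofHom (lau (K := K) v)) ≫ u K 1 =
      Spec.map (CommRingCat.ofHom (Polynomial.aeval (R := K) ((v⁻¹ : Bˣ) : B)).toRingHom) := by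
  rw [u, ← Spec.map_comp, ← CommRingCat.ofHom_comp]
  congr 2
  apply Polynomial.ringHom_ext
  · intro a
    simp [lau, ur]
  · simp [lau, ur]

/-- the two charts on units -/
theorem cp_inv {B : Type u} [CommRing B] [Algebra K B] (v : Bˣ) :
    cp (K := K) 1 ((v⁻¹ : Bˣ) : B) = cp 0 (v : B) := by
  rw [cp, cp, ← sp_lau_one v, ← sp_lau_zero v, Category.assoc, Category.assoc, u_ch K 1]

theorem map_cp (i : Fin (1 + 1)) {B B' : Type u} [CommRing B] [Algebra K B] [CommRing B'] [Algebra K B']
    (f : B →ₐ[K] B') (b : B) : Spec.map (CommRingCat.ofHom f.toRingHom) ≫ cp (K := K) i b = cp i (f b) := by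
  rw [cp, cp, ← Category.assoc, ← Spec.map_comp, ← CommRingCat.ofHom_comp]
  congr 3
  apply Polynomial.ringHom_ext
  · intro a
    simp
  · simp

theorem cp_toSpec (i : Fin (1 + 1)) {B : Type u} [CommRing B] [Algebra K B] (b : B) :
    cp i b ≫ CohB1.ProjSpace.toSpec 1 K = Spec.map (CommRingCat.ofHom (algebraMap K B)) := by
  have h := ch_str K i
  rw [cp, Category.assoc, h, ← Spec.map_comp, ← CommRingCat.ofHom_comp]
  congr 2
  ext a
  simp

theorem cp_injective (i : Fin (1 + 1)) {B : Type u} [CommRing B] [Algebra K B] {b b' : B}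
    (h : cp (K := K) i b = cp i b') : b = b' := by
  rw [cp, cp, cancel_mono] at h
  have h1 := congrArg CommRingCat.Hom.hom (Spec.map_injective h)
  have h2 := congr($h1 Polynomial.X)
  simpa using h2

theorem ch_eq_cp (i : Fin (1 + 1)) : ch K i = cp i (Polynomial.X : Polynomial K) := by
  have : (Polynomial.aeval (R := K) (Polynomial.X : Polynomial K)).toRingHom = RingHom.id _ := by
    apply Polynomial.ringHom_ext
    · intro a; simp
    · simp
  rw [cp, this]
  change _ = Spec.map (𝟙 _) ≫ _
  rw [Spec.map_id, Category.id_comp]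

/-- an automorphism fixing the point at infinity is given by a substitution on the affine line. -/
theorem exists_affine (φ : CohB1.ProjSpace 1 K ≅ CohB1.ProjSpace 1 K)
    (hφ : φ.hom ≫ CohB1.ProjSpace.toSpec 1 K = CohB1.ProjSpace.toSpec 1 K) (hx : φ.hom (x K 1) = x K 1) :
    ∃ α β : K, α ≠ 0 ∧ ch K 0 ≫ φ.hom = cp 0 (Polynomial.C α * Polynomial.X + Polynomial.C β) := by
  have hr : Set.range (ch K 0 ≫ φ.hom) = Set.range (ch K 0) := by
    have h1 := compl_range_ch K 0
    have h1' : Set.range (ch K 0) = {x K 1}ᶜ := by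
      rw [← compl_compl (Set.range (ch K 0)), h1]; rfl
    have h2 : Set.range (ch K 0 ≫ φ.hom) = φ.hom '' (Set.range (ch K 0)) := by
      rw [← Set.range_comp]; rfl
    have h3 : Function.Bijective φ.hom := (Scheme.homeoOfIso φ).bijective
    rw [h2, h1', Set.image_compl_eq h3, Set.image_singleton, hx]
  let e := IsOpenImmersion.isoOfRangeEq (ch K 0 ≫ φ.hom) (ch K 0) hr
  have he : e.hom ≫ ch K 0 = ch K 0 ≫ φ.hom := IsOpenImmersion.isoOfRangeEq_hom_fac _ _ _
  obtain ⟨θ, hθ⟩ := Spec.map_surjective e.hom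
  have hiso : IsIso (Spec.map θ) := by rw [hθ]; infer_instance
  have hisoθ : IsIso θ := by
    have := (isIso_iff_of_reflects_iso θ.op (Scheme.Spec)).1
    have h2 : IsIso θ.op := by
      have h3 : IsIso (Scheme.Spec.map θ.op) := hiso
      exact isIso_of_reflects_iso θ.op Scheme.Spec
    exact (isIso_op_iff θ).1 h2
  have hC : θ.hom.comp Polynomial.C = Polynomial.C := by
    have h2 : CommRingCat.ofHom (Polynomial.C : K →+* Polynomial K) ≫ θ = CommRingCat.ofHom Polynomial.C := by
      apply Spec.map_injective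
      have h3 := ch_str K 0
      rw [Spec.map_comp, hθ, ← h3, ← Category.assoc, he, Category.assoc, hφ]
    exact congrArg CommRingCat.Hom.hom h2
  let f : Polynomial K := θ.hom Polynomial.X
  have hθ2 : θ.hom = (Polynomial.aeval (R := K) f).toRingHom := by
    apply Polynomial.ringHom_ext
    · intro a
      have := congr($hC a)
      simpa using this
    · simp [f]
  have hsurj : Function.Surjective θ.hom := (ConcreteCategory.bijective_of_isIso θ).2
  obtain ⟨g, hg⟩ := hsurj Polynomial.X
  have hdeg : f.natDegree = 1 := by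
    rw [hθ2] at hg
    change Polynomial.aeval f g = _ at hg
    rw [← Polynomial.comp_eq_aeval] at hg
    have h4 := congrArg Polynomial.natDegree hg
    rw [Polynomial.natDegree_comp, Polynomial.natDegree_X] at h4
    exact Nat.eq_one_of_mul_eq_one_left h4
  obtain ⟨α, hα, β, hαβ⟩ := Polynomial.natDegree_eq_one.1 hdeg
  refine ⟨α, β, hα, ?_⟩
  rw [← he, ← hθ, cp, hαβ, ← hθ2]
  rfl

open Groth.Agent.CohqB.ProjBC in
theorem isIntegral_P1 (K : Type u) [Field K] : IsIntegral (CohB1.ProjSpace 1 K) :=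
  (Groth.Agent.Sga4B.P1Curve.isSmoothProperCurve_of_isPullback K (S := Spec (CommRingCat.of K))
    (a := (projSpaceOverIso 1 K).inv) (b := str K) (x := 𝟙 _)
    (IsPullback.of_horiz_isIso ⟨by rw [projSpaceOverIso_inv_toBase, Category.comp_id]⟩)).2.2.1

theorem isDominant_SpecMap {A B : CommRingCat.{u}} (f : A ⟶ B) (hf : Function.Injective f.hom) :
    IsDominant (Spec.map f) := by
  refine ⟨?_⟩
  have h : DenseRange (PrimeSpectrum.comap f.hom) := by
    rw [PrimeSpectrum.denseRange_comap_iff_ker_le_nilRadical,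
      (RingHom.injective_iff_ker_eq_bot f.hom).1 hf]
    exact bot_le
  exact h

/-- the truncated power series ring -/
abbrev BB (K : Type u) [Field K] : Type u := PowerSeries K ⧸ Ideal.span {(PowerSeries.X : PowerSeries K) ^ 3}

/-- the variable -/
noncomputable abbrev bX (K : Type u) [Field K] : BB K := Ideal.Quotient.mk _ PowerSeries.X

open PowerSeries in
/-- an automorphism fixing the point at infinity to third order is the identity. -/
theorem eq_id_of_fix (φ : CohB1.ProjSpace 1 K ≅ CohB1.ProjSpace 1 K)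
    (hφ : φ.hom ≫ CohB1.ProjSpace.toSpec 1 K = CohB1.ProjSpace.toSpec 1 K) (hx : φ.hom (x K 1) = x K 1)
    (hfix : cp 1 (bX K) ≫ φ.hom = cp 1 (bX K)) : φ.hom = 𝟙 _ := by
  obtain ⟨α, β, hα, hαβ⟩ := exists_affine φ hφ hx
  let v : PowerSeries K := C α + C β * X
  have hv : IsUnit v := by
    rw [isUnit_iff_constantCoeff]
    simp [v, hα]
  obtain ⟨v', hv'⟩ := hv
  let F := FractionRing (PowerSeries K)
  let ι : PowerSeries K →ₐ[K] F := IsScalarTower.toAlgHom K (PowerSeries K) F
  have hι : Function.Injective ι := IsFractionRing.injective (PowerSeries K) F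
  have hX0 : ι X ≠ 0 := by
    rw [map_ne_zero_iff _ hι]
    exact X_ne_zero
  let w : Fˣ := Units.mk0 (ι X) hX0
  let vF : Fˣ := Units.map (ι : PowerSeries K →* F) v'
  have hF : Spec.map (CommRingCat.ofHom ι.toRingHom) ≫ cp 1 (X : PowerSeries K) ≫ φ.hom =
      Spec.map (CommRingCat.ofHom ι.toRingHom) ≫ cp 1 (X * ((v'⁻¹ : (PowerSeries K)ˣ) : PowerSeries K)) := by
    rw [← Category.assoc, map_cp, map_cp]
    have e1 : cp (K := K) 1 (ι X) = cp 0 ((w⁻¹ : Fˣ) : F) := by
      rw [← cp_inv, inv_inv]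
      rfl
    have e2 : cp (K := K) 0 ((w⁻¹ : Fˣ) : F) ≫ φ.hom = cp 0 (algebraMap K F α * ((w⁻¹ : Fˣ) : F) + algebraMap K F β) := by
      rw [cp, Category.assoc, hαβ]
      have := map_cp (K := K) 0 (Polynomial.aeval (R := K) ((w⁻¹ : Fˣ) : F))
        (Polynomial.C α * Polynomial.X + Polynomial.C β)
      rw [this]
      congr 1
      simp
    rw [e1, e2]
    have e3 : ι (X * ((v'⁻¹ : (PowerSeries K)ˣ) : PowerSeries K)) = (((vF * w⁻¹)⁻¹ : Fˣ) : F) := by
      rw [map_mul, mul_inv, inv_inv, mul_comm]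
      rfl
    rw [e3, cp_inv]
    congr 1
    rw [Units.val_mul]
    have e4 : (vF : F) = algebraMap K F α + algebraMap K F β * ι X := by
      change ι v' = _
      rw [hv', map_add, map_mul]
      rfl
    have e5 : ι X * ((w⁻¹ : Fˣ) : F) = 1 := w.mul_inv
    rw [e4, add_mul, mul_assoc, e5, mul_one]
  have hsep : IsSeparated (CohB1.ProjSpace.toSpec 1 K) := by
    have := proper_str K
    infer_instance
  have hR : cp 1 (X : PowerSeries K) ≫ φ.hom = cp 1 (X * ((v'⁻¹ : (PowerSeries K)ˣ) : PowerSeries K)) := by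
    have hdom : IsDominant (Spec.map (CommRingCat.ofHom ι.toRingHom)) :=
      isDominant_SpecMap (CommRingCat.ofHom ι.toRingHom) hι
    have : IsReduced (Spec (CommRingCat.of (PowerSeries K))) := inferInstance
    refine ext_of_isDominant_of_isSeparated (CohB1.ProjSpace.toSpec 1 K) ?_ _ hF
    rw [Category.assoc, hφ, cp_toSpec, cp_toSpec]
  let π : PowerSeries K →ₐ[K] BB K := Ideal.Quotient.mkₐ K _
  have h1 := congrArg (fun q => Spec.map (CommRingCat.ofHom π.toRingHom) ≫ q) hR
  simp only [← Category.assoc] at h1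
  rw [map_cp, map_cp] at h1
  have h2 : cp (K := K) 1 (π X) ≫ φ.hom = cp 1 (π X) := hfix
  rw [h2] at h1
  have h3 := cp_injective 1 h1
  have h4 : π (X * (v - 1)) = 0 := by
    have h5 : π (X * v) = π X := by
      rw [map_mul]
      conv_lhs => rw [h3]
      rw [← map_mul, mul_assoc, ← hv', Units.inv_mul, mul_one]
    rw [mul_sub, mul_one, map_sub, h5, sub_self]
  have h6 : (X * (v - 1) : PowerSeries K) ∈ Ideal.span {(PowerSeries.X : PowerSeries K) ^ 3} :=
    Ideal.Quotient.eq_zero_iff_mem.1 h4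
  rw [Ideal.mem_span_singleton, X_pow_dvd_iff] at h6
  have h7 : α = 1 := by
    have := h6 1 (by norm_num)
    have e : (1 : ℕ) = 0 + 1 := rfl
    rw [e, coeff_succ_X_mul] at this
    simp [v] at this
    linear_combination this
  have h8 : β = 0 := by
    have := h6 2 (by norm_num)
    have e : (2 : ℕ) = 1 + 1 := rfl
    rw [e, coeff_succ_X_mul] at this
    simp [v, coeff_one] at this
    exact this
  have hch : ch K 0 ≫ φ.hom = ch K 0 ≫ 𝟙 _ := by
    rw [hαβ, h7, h8, Category.comp_id, ch_eq_cp 0]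
    congr 1
    simp
  have hint : IsIntegral (CohB1.ProjSpace 1 K) := isIntegral_P1 K
  have hdom : IsDominant (ch K 0) := by
    refine ⟨?_⟩
    have : Nonempty (A K) := inferInstanceAs (Nonempty (PrimeSpectrum (Polynomial K)))
    exact IsOpen.dense (ch K 0).isOpenEmbedding.isOpen_range (Set.range_nonempty _)
  refine ext_of_isDominant_of_isSeparated (CohB1.ProjSpace.toSpec 1 K) ?_ (ch K 0) hch
  rw [hφ, Category.id_comp]

end K403.P1Fix
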