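import Groth.Agent.RatCurve.K915.RatIff
import Groth.Agent.Curves.K322.CurveIso
import Groth.Agent.Curves.K322.FrobTwist
import Groth.Agent.Curves.K322.FrobMain
import Groth.Agent.Lefpen.H723.P1Simply
import Groth.Agent.Models.H59.P1Fibre
import Groth.Agent.Sga4h.H276.P1
import Groth.Agent.AlgGrp.K403.P1Fix

/-! A proper normal curve over a field dominated by an open part of the affine line is the projective line. -/

set_option autoImplicit false
universe u
open CategoryTheory AlgebraicGeometry

namespace K403.RatCrv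

open Groth.Agent.Sga4h.H276.P1

/-- function fields of open subschemes -/
theorem exists_ffIso' {U Y : Scheme.{u}} [IsIntegral U] [IsIntegral Y] (j : U ⟶ Y) [IsOpenImmersion j] :
    ∃ e : Y.functionField ≅ U.functionField,
      Spec.map e.hom ≫ Y.fromSpecStalk (genericPoint Y) = U.fromSpecStalk (genericPoint U) ≫ j := by
  have hgen : j (genericPoint U) = genericPoint Y := genericPoint_eq_of_isOpenImmersion j
  have h := K322.FrobMain.specMap_ffMap j hgen
  have h1 : IsIso (Y.presheaf.stalkSpecializes (specializes_of_eq hgen) ≫ j.stalkMap (genericPoint U)) := by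
    have h2 : ∀ (y : Y) (h : j (genericPoint U) = y), IsIso (Y.presheaf.stalkSpecializes (specializes_of_eq h)) := by
      intro y h
      subst h
      rw [TopCat.Presheaf.stalkSpecializes_refl]
      infer_instance
    have := h2 _ hgen
    infer_instance
  exact ⟨asIso (Y.presheaf.stalkSpecializes (specializes_of_eq hgen) ≫ j.stalkMap (genericPoint U)), h⟩

/-- function fields of open subschemes -/
theorem exists_ffIso {U Y : Scheme.{u}} [IsIntegral U] [IsIntegral Y] (j : U ⟶ Y) [IsOpenImmersion j] :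
    ∃ e : Spec U.functionField ≅ Spec Y.functionField,
      e.hom ≫ Y.fromSpecStalk (genericPoint Y) = U.fromSpecStalk (genericPoint U) ≫ j := by
  obtain ⟨e, he⟩ := exists_ffIso' j
  exact ⟨Scheme.Spec.mapIso e.op, he⟩

/-- the function field of a domain -/
theorem exists_ringEquiv {R A : CommRingCat.{u}} [IsDomain R] [IsDomain A] (f : A ⟶ R) [IsOpenImmersion (Spec.map f)] :
    ∃ e : (Spec R).functionField ≃+* (Spec A).functionField,
      ∀ a : A, e (algebraMap R (Spec R).functionField (f.hom a)) = algebraMap A (Spec A).functionField a := by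
  obtain ⟨e, he⟩ := exists_ffIso' (Spec.map f)
  rw [K915.Luroth.fromSpecStalk_eq, K915.Luroth.fromSpecStalk_eq, ← Spec.map_comp, ← Spec.map_comp] at he
  have h1 := Spec.map_injective he
  refine ⟨e.symm.commRingCatIsoToRingEquiv, fun a => ?_⟩
  have h2 : e.hom.hom (algebraMap A (Spec A).functionField a) = algebraMap R (Spec R).functionField (f.hom a) :=
    congr($(h1).hom a)
  rw [← h2]
  exact congr($(e.hom_inv_id).hom (algebraMap A (Spec A).functionField a))

theorem exists_iso_P1_aux {K : Type u} [Field K] {C : Scheme.{u}} [IsIntegral C] (p : C ⟶ Spec (CommRingCat.of K))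
    [IsProper p] (hdim : topologicalKrullDim C = 1) (hn : Pi1.IsNormalScheme C)
    (R : CommRingCat.{u}) [IsDomain R] (cR : CommRingCat.of K ⟶ R) (e : (Spec R).functionField ≃+* RatFunc K)
    (he : ∀ c : K, e (algebraMap R (Spec R).functionField (cR.hom c)) = algebraMap K (RatFunc K) c)
    (g : Spec R ⟶ C) (hg : g ≫ p = Spec.map cR) (hgd : DenseRange g)
    (R' : CommRingCat.{u}) [IsDomain R'] (cR' : CommRingCat.of K ⟶ R') (e' : R' ≃+* Polynomial K)
    (he' : ∀ c : K, e' (cR'.hom c) = Polynomial.C c)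
    (j : Spec R' ⟶ CohB1.ProjSpace 1 K) [IsOpenImmersion j] (hj : j ≫ CohB1.ProjSpace.toSpec 1 K = Spec.map cR') :
    ∃ i : C ≅ CohB1.ProjSpace 1 K, i.hom ≫ CohB1.ProjSpace.toSpec 1 K = p := by
  let _ : C.Over (Spec (CommRingCat.of K)) := ⟨p⟩
  have _ : LocallyOfFiniteType (C ↘ (Spec (CommRingCat.of K))) := inferInstanceAs (LocallyOfFiniteType p)
  obtain ⟨φ, hφ⟩ := K915.RatIff.exists_stalk_map g (K915.RatIff.map_genericPoint g hgd)
  -- the three fields
  let aC : K →+* C.functionField := Curv2.stalkMap K C (genericPoint C)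
  have haC : Spec.map (CommRingCat.ofHom aC) = C.fromSpecStalk _ ≫ p :=
    Groth.Agent.VarietyB.ResMap.specMap_stalkMap K C _
  let aM : K →+* (Spec R).functionField :=
    (algebraMap R (Spec R).functionField).comp cR.hom
  have haM : Spec.map (CommRingCat.ofHom aM) =
      (Spec R).fromSpecStalk _ ≫ Spec.map cR := by
    rw [K915.Luroth.fromSpecStalk_eq, ← Spec.map_comp]
    rfl
  have hcomp : ∀ c, φ.hom (aC c) = aM c := by
    intro c
    have h1 : CommRingCat.ofHom aC ≫ φ = CommRingCat.ofHom aM := by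
      apply Spec.map_injective
      rw [Spec.map_comp, haC, haM, reassoc_of% hφ, hg]
    exact congr($(h1).hom c)
  have hne : ¬ Function.Surjective aC := by
    intro hs
    have h1 : (@Algebra.trdeg K (C.residueField (genericPoint C)) _ _
        (Curv2.resAlgebra K C _)) = (0 : ℕ) := by
      let _ := Curv2.resAlgebra K C (genericPoint C)
      have h3 : Algebra.IsAlgebraic K (C.residueField (genericPoint C)) := by
        constructor
        intro x
        obtain ⟨y, rfl⟩ := C.residue_surjective _ x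
        obtain ⟨c, rfl⟩ := hs y
        exact isAlgebraic_algebraMap (A := C.residueField (genericPoint C)) c
      rw [Nat.cast_zero]
      exact _root_.trdeg_eq_zero
    have h2 := Groth.Agent.S1619.result K C 0 h1
    rw [hdim] at h2
    exact absurd h2 (by simp)
  -- the affine line
  obtain ⟨e1, he1⟩ := K915.Luroth.exists_ratFunc_aux K R' e'
  let aL : K →+* (Spec R').functionField := (algebraMap R' (Spec R').functionField).comp cR'.hom
  have haL : Spec.map (CommRingCat.ofHom aL) = (Spec R').fromSpecStalk _ ≫ Spec.map cR' := by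
    rw [K915.Luroth.fromSpecStalk_eq, ← Spec.map_comp]
    rfl
  obtain ⟨ψ, hψ⟩ := K915.Luroth.luroth aC aM e he φ.hom hcomp hne
  let ψ1 : C.functionField ≃+* (Spec R').functionField := (ψ.trans e).trans e1.symm
  have hψ1 : ∀ c, ψ1 (aC c) = aL c := by
    intro c
    change e1.symm (e (ψ (aC c))) = aL c
    rw [hψ, RingEquiv.symm_apply_eq]
    refine (he c).trans ?_
    refine Eq.trans ?_ (he1 _).symm
    rw [he']
    rfl
  let ψ2 : C.functionField ≅ (Spec R').functionField := ψ1.toCommRingCatIso
  have hψ2 : CommRingCat.ofHom aC ≫ ψ2.hom = CommRingCat.ofHom aL := by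
    ext c
    exact hψ1 c
  have hx : CommRingCat.ofHom aL ≫ ψ2.inv = CommRingCat.ofHom aC := by
    rw [← hψ2, Category.assoc, ψ2.hom_inv_id]
    exact Category.comp_id _
  have hI1 : IsIntegral (CohB1.ProjSpace 1 K) := K403.P1Fix.isIntegral_P1 K
  obtain ⟨e2, he2⟩ := exists_ffIso j
  have hp1 : IsProper (CohB1.ProjSpace.toSpec 1 K) := Groth.Agent.Ega3B.ProjProper.isProper_toSpec 1 K
  obtain ⟨i, hi, -⟩ := K322.CurveIso.exists_iso_of_functionField p (CohB1.ProjSpace.toSpec 1 K)
    (K322.FrobTwist.stalk_val p hdim.le hn)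
    (K322.FrobTwist.stalk_val (CohB1.ProjSpace.toSpec 1 K) (Groth.Agent.Models.H59.P1Fibre.topologicalKrullDim_P1 K).le
      (Groth.Agent.Lefpen.H723.P1Simply.isNormal K)) (Scheme.Spec.mapIso ψ2.symm.op ≪≫ e2) (by
      change (Spec.map ψ2.inv ≫ e2.hom) ≫ _ = _
      rw [Category.assoc, reassoc_of% he2, hj, ← haL, ← Spec.map_comp, hx, haC])
  exact ⟨i, hi⟩

theorem exists_iso_P1 {K : Type u} [Field K] {C : Scheme.{u}} [IsIntegral C] (p : C ⟶ Spec (CommRingCat.of K))
    [IsProper p] (hdim : topologicalKrullDim C = 1) (hn : Pi1.IsNormalScheme C)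
    (R : CommRingCat.{u}) [IsDomain R] (cR : CommRingCat.of K ⟶ R) (e : (Spec R).functionField ≃+* RatFunc K)
    (he : ∀ c : K, e (algebraMap R (Spec R).functionField (cR.hom c)) = algebraMap K (RatFunc K) c)
    (g : Spec R ⟶ C) (hg : g ≫ p = Spec.map cR) (hgd : DenseRange g) :
    ∃ i : C ≅ CohB1.ProjSpace 1 K, i.hom ≫ CohB1.ProjSpace.toSpec 1 K = p :=
  exists_iso_P1_aux p hdim hn R cR e he g hg hgd (CommRingCat.of (Polynomial K))
    (CommRingCat.ofHom (Polynomial.C : K →+* Polynomial K)) (RingEquiv.refl _) (fun _ => rfl) (ch K 0) (ch_str K 0)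

/-- a proper normal curve dominated by the affine line. -/
theorem exists_iso_of_line {K : Type u} [Field K] {C : Scheme.{u}} [IsIntegral C] (p : C ⟶ Spec (CommRingCat.of K))
    [IsProper p] (hdim : topologicalKrullDim C = 1) (hn : Pi1.IsNormalScheme C)
    (g : Spec (CommRingCat.of (Polynomial K)) ⟶ C)
    (hg : g ≫ p = Spec.map (CommRingCat.ofHom (Polynomial.C : K →+* Polynomial K))) (hgd : DenseRange g) :
    ∃ i : C ≅ CohB1.ProjSpace 1 K, i.hom ≫ CohB1.ProjSpace.toSpec 1 K = p := by
  obtain ⟨e, he⟩ := K915.Luroth.exists_ratFunc_aux K (CommRingCat.of (Polynomial K)) (RingEquiv.refl _)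
  exact exists_iso_P1 p hdim hn (CommRingCat.of (Polynomial K)) _ e (fun c => he _) g hg hgd

/-- a proper normal curve dominated by an open affine subscheme of the line. -/
theorem exists_iso_of_open {K : Type u} [Field K] {C : Scheme.{u}} [IsIntegral C] (p : C ⟶ Spec (CommRingCat.of K))
    [IsProper p] (hdim : topologicalKrullDim C = 1) (hn : Pi1.IsNormalScheme C) (A R : CommRingCat.{u}) [IsDomain A]
    [IsDomain R] (cA : CommRingCat.of K ⟶ A) (eA : A ≃+* Polynomial K) (hA : ∀ c, eA (cA.hom c) = Polynomial.C c)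
    (f : A ⟶ R) [IsOpenImmersion (Spec.map f)]
    (g : Spec R ⟶ C) (hg : g ≫ p = Spec.map (cA ≫ f)) (hgd : DenseRange g) :
    ∃ i : C ≅ CohB1.ProjSpace 1 K, i.hom ≫ CohB1.ProjSpace.toSpec 1 K = p := by
  obtain ⟨e, he⟩ := K915.Luroth.exists_ratFunc_aux K A eA
  obtain ⟨e', he'⟩ := exists_ringEquiv f
  refine exists_iso_P1 p hdim hn R _ (e'.trans e) (fun c => ?_) g hg hgd
  have h2 := he' (cA.hom c)
  have h3 := he (cA.hom c)
  rw [hA] at h3
  exact (congrArg e h2).trans h3

/-- a proper normal curve dominated by the punctured affine line. -/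
theorem exists_iso_of_punct {K : Type u} [Field K] {C : Scheme.{u}} [IsIntegral C] (p : C ⟶ Spec (CommRingCat.of K))
    [IsProper p] (hdim : topologicalKrullDim C = 1) (hn : Pi1.IsNormalScheme C)
    (g : Spec (CommRingCat.of (LaurentPolynomial K)) ⟶ C)
    (hg : g ≫ p = Spec.map (CommRingCat.ofHom (LaurentPolynomial.C : K →+* LaurentPolynomial K))) (hgd : DenseRange g) :
    ∃ i : C ≅ CohB1.ProjSpace 1 K, i.hom ≫ CohB1.ProjSpace.toSpec 1 K = p := by
  have hu : IsOpenImmersion (Spec.map (CommRingCat.ofHom (Polynomial.toLaurent : Polynomial K →+* LaurentPolynomial K))) := by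
    rw [← u_zero]
    infer_instance
  refine exists_iso_of_open p hdim hn (CommRingCat.of (Polynomial K)) (CommRingCat.of (LaurentPolynomial K))
    (CommRingCat.ofHom (Polynomial.C : K →+* Polynomial K)) (RingEquiv.refl _) (fun _ => rfl)
    (CommRingCat.ofHom (Polynomial.toLaurent : Polynomial K →+* LaurentPolynomial K)) g ?_ hgd
  rw [hg]
  congr 1
  apply CommRingCat.hom_ext
  apply RingHom.ext
  intro c
  exact (Polynomial.toLaurent_C c).symm

end K403.RatCrv
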