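import Groth.Agent.S14634
import Groth.Agent.AlgGrp.K403.Orbits3
import Groth.Agent.AlgGrp.K403.KerAct
import Groth.Agent.AlgGrp.K403.RatCrv
import Groth.Agent.Sga3.H783.Dichotomy
import Groth.Agent.Sga7.H783.GmSub
import Groth.Agent.Sga3B.RootHomDict
import Groth.Agent.Etcore.CurveCardH2
import Groth.Agent.VarietyA.RegSmoothSch
import Groth.Prelude.Def_ChGrp
import Groth.Agent.CurvesC.RegNormal

/-! Non-trivial actions on curves over an algebraically closed field have dominant orbit maps. -/

set_option autoImplicit false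
universe u
open CategoryTheory MonoidalCategory CartesianMonoidalCategory MonObj GrpObj AlgebraicGeometry CategoryTheory.Limits
open Groth.Agent.Books.BorelOrb K403.Act K403.Dense K403.GeomPts K403.Orbits

namespace K403.HomogA

variable {K : Type u} [Field K]

instance isIso_KK_hom : IsIso (KK K K).hom := by
  change IsIso (Spec.map (CommRingCat.ofHom (algebraMap K K)))
  have : CommRingCat.ofHom (algebraMap K K) = 𝟙 _ := rfl
  rw [this]
  infer_instance

instance isIso_fst_KK (X : Over (Spec (CommRingCat.of K))) : IsIso (fst X (KK K K)).left :=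
  inferInstanceAs (IsIso (pullback.fst X.hom (KK K K).hom))

variable [IsAlgClosed K] {M D : Over (Spec (CommRingCat.of K))} [GrpObj M]

/-- a dominant orbit map -/
theorem exists_dominant [Smooth M.hom] [QuasiCompact M.hom] [ConnectedSpace M.left] [IsSeparated D.hom]
    [LocallyOfFiniteType D.hom] [QuasiCompact D.hom] [GeometricallyIntegral D.hom]
    (hdim : topologicalKrullDim D.left = 1) (b : AlgGrp.Action M D) (hb : b.act ≠ snd M D) :
    ∃ f : M ⟶ D, DenseRange f.left := by
  have h1 := (Groth.Agent.S14634.result K M D hdim b).2 hb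
  obtain ⟨V, hV, hV'⟩ := exists_open_of_isDominant_gr (K := K) b h1
  obtain ⟨z, hz⟩ := exists_pt_mem (K := K) V hV
  have h2 := hV' z hz
  have h3 : IsIso (fst M (KK K K)) := by
    have : IsIso ((Over.forget _).map (fst M (KK K K))) := isIso_fst_KK M
    exact isIso_of_reflects_iso _ (Over.forget _)
  refine ⟨inv (fst M (KK K K)) ≫ orb b z ≫ fst D (KK K K), ?_⟩
  have h4 : IsDominant (inv (fst M (KK K K)) ≫ orb b z ≫ fst D (KK K K)).left := by
    rw [Over.comp_left, Over.comp_left]
    have : IsIso (inv (fst M (KK K K))).left := inferInstanceAs (IsIso ((Over.forget _).map (inv (fst M (KK K K)))))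
    infer_instance
  exact h4.1

/-- restriction of a faithful action along a nontrivial homomorphism. -/
theorem exists_dominant_of_hom {Q : Over (Spec (CommRingCat.of K))} [GrpObj Q]
    [Smooth M.hom] [QuasiCompact M.hom] [ConnectedSpace M.left] [IsSeparated D.hom]
    [LocallyOfFiniteType D.hom] [QuasiCompact D.hom] [GeometricallyIntegral D.hom]
    (hdim : topologicalKrullDim D.left = 1) (b : AlgGrp.Action Q D)
    (hf : ∀ {T : Over (Spec (CommRingCat.of K))} (q : T ⟶ Q), Triv b q → q = 1)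
    (i : M ⟶ Q) [IsMonHom i] (hi : i ≠ 1) : ∃ f : M ⟶ D, DenseRange f.left := by
  refine exists_dominant hdim (b.restrict i) ?_
  intro h
  apply hi
  apply hf
  apply triv_of_univ
  have h1 : (b.restrict i).act = (i ▷ D) ≫ b.act := rfl
  rw [h1] at h
  rw [sm]
  refine Eq.trans ?_ h
  congr 1

omit [IsAlgClosed K] in
theorem smooth_ga : Smooth (Red.Ga (Spec (CommRingCat.of K))).hom := by
  have := Groth.Agent.Sga3.H783.GaGm.isIntegral_ga K
  infer_instance

omit [IsAlgClosed K] in
/-- smooth over a field implies normal -/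
theorem isNormal_of_smooth {X : Scheme.{u}} (f : X ⟶ Spec (CommRingCat.of K)) [Smooth f] : Pi1.IsNormalScheme X := by
  intro x
  have h1 : IsRegularLocalRing (X.presheaf.stalk x) :=
    Groth.Agent.VarietyA.RegSmoothSch.isRegularLocalRing_stalk_of_mem_smoothLocus f x
      (by rw [f.smoothLocus_eq_top]; trivial)
  exact ⟨Groth.Agent.CurvesC.RegNormal.isDomain _, Groth.Agent.CurvesC.RegNormal.isIntegrallyClosed _⟩

omit [IsAlgClosed K] in
theorem denseRange_comp {X Y Z : Over (Spec (CommRingCat.of K))} (v : X ⟶ Y) (f : Y ⟶ Z) [IsIso v]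
    (hf : DenseRange f.left) : DenseRange (v ≫ f).left := by
  have : IsIso v.left := inferInstanceAs (IsIso ((Over.forget _).map v))
  rw [Over.comp_left, Scheme.Hom.comp_base, TopCat.coe_comp]
  exact hf.comp v.left.surjective.denseRange f.left.continuous

open Groth.Agent.Books.AffBridge in
/-- the smooth completion is the projective line when the acting group is not proper. -/
theorem exists_P1 {Q : Over (Spec (CommRingCat.of K))} [GrpObj Q] [LocallyOfFiniteType Q.hom] [QuasiCompact Q.hom]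
    (hQ : ¬ IsProper Q.hom)
    [IsSeparated D.hom] [Smooth D.hom] [QuasiCompact D.hom] [GeometricallyIntegral D.hom]
    (hdim : topologicalKrullDim D.left = 1) (b : AlgGrp.Action Q D)
    (hf : ∀ {T : Over (Spec (CommRingCat.of K))} (q : T ⟶ Q), Triv b q → q = 1) :
    ∃ j : D ⟶ Over.mk (CohB1.ProjSpace.toSpec 1 K), IsOpenImmersion j.left := by
  have hDI : IsIntegral D.left := GeometricallyIntegral.isIntegral_of_subsingleton D.hom
  have hnorm : Pi1.IsNormalScheme D.left := isNormal_of_smooth D.hom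
  obtain ⟨C, p, j, hjp, hj, ⟨hp, hs, hi, hd⟩, hfin⟩ := Groth.Agent.Etcore.CurveCardH2.exists_smooth_completion K D.hom hdim hnorm
  have hCn : Pi1.IsNormalScheme C := isNormal_of_smooth p
  have hjd : DenseRange j := j.isOpenEmbedding.isOpen_range.dense ⟨_, ⟨genericPoint D.left, rfl⟩⟩
  suffices h : ∃ i : C ≅ CohB1.ProjSpace 1 K, i.hom ≫ CohB1.ProjSpace.toSpec 1 K = p by
    obtain ⟨i, hi⟩ := h
    have h1 : (j ≫ i.hom) ≫ (Over.mk (CohB1.ProjSpace.toSpec 1 K)).hom = D.hom := by
      change (j ≫ i.hom) ≫ CohB1.ProjSpace.toSpec 1 K = D.hom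
      rw [Category.assoc, hi, hjp]
    exact ⟨Over.homMk (j ≫ i.hom) h1, inferInstanceAs (IsOpenImmersion (j ≫ i.hom))⟩
  rcases Groth.Agent.Sga3.H783.Dichotomy.exists_hom_ga_or_gm K Q hQ with ⟨i, hi, hne⟩ | ⟨i, hi, hne⟩
  · have hI := Groth.Agent.Sga3.H783.GaGm.isIntegral_ga K
    have := smooth_ga (K := K)
    obtain ⟨f, hf'⟩ := exists_dominant_of_hom hdim b hf i hne
    let v : SpecOver K (Polynomial K) ⟶ Red.Ga (Spec (CommRingCat.of K)) := Groth.Agent.Sga3B.RootHomDict.gaFrom
    have hv : IsIso v := ⟨_, Groth.Agent.Sga3B.RootHomDict.gaFrom_gaTo, Groth.Agent.Sga3B.RootHomDict.gaTo_gaFrom⟩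
    obtain ⟨g, hg1, hg2⟩ : ∃ g : Spec (CommRingCat.of (Polynomial K)) ⟶ D.left,
        g ≫ D.hom = Spec.map (CommRingCat.ofHom (algebraMap K (Polynomial K))) ∧ DenseRange g :=
      ⟨(v ≫ f).left, Over.w (v ≫ f), denseRange_comp v f hf'⟩
    refine K403.RatCrv.exists_iso_of_line p hd hCn (g ≫ j) ?_ ?_
    · rw [Category.assoc, hjp, hg1]
    · rw [Scheme.Hom.comp_base, TopCat.coe_comp]
      exact hjd.comp hg2 j.continuous
  · have hI := Groth.Agent.Sga3.H783.GaGm.isIntegral_gm K
    have := Groth.Agent.Sga3.H783.GaGm.smooth_gm K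
    have : IsAffineHom (Red.Gm (Spec (CommRingCat.of K))).hom := Groth.Agent.Sga3.H783.GaGm.isAffineHom_gm _
    obtain ⟨f, hf'⟩ := exists_dominant_of_hom hdim b hf i hne
    let v : SpecOver K (MonoidAlgebra K (Multiplicative ℤ)) ⟶ Red.Gm (Spec (CommRingCat.of K)) :=
      Groth.Agent.Sga3B.DSAff.dsFrom K ℤ
    have hv : IsIso v := ⟨_, Groth.Agent.Sga3B.DSAff.dsFrom_dsTo, Groth.Agent.Sga3B.DSAff.dsTo_dsFrom⟩
    let E : LaurentPolynomial K ≃ₐ[K] MonoidAlgebra K (Multiplicative ℤ) := AddMonoidAlgebra.toMultiplicativeAlgEquiv K K ℤ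
    let w : Spec (CommRingCat.of (MonoidAlgebra K (Multiplicative ℤ))) ≅ Spec (CommRingCat.of (LaurentPolynomial K)) :=
      Scheme.Spec.mapIso (E.toRingEquiv.toCommRingCatIso.op)
    obtain ⟨g, hg1, hg2⟩ : ∃ g : Spec (CommRingCat.of (MonoidAlgebra K (Multiplicative ℤ))) ⟶ D.left,
        g ≫ D.hom = Spec.map (CommRingCat.ofHom (algebraMap K (MonoidAlgebra K (Multiplicative ℤ)))) ∧ DenseRange g :=
      ⟨(v ≫ f).left, Over.w (v ≫ f), denseRange_comp v f hf'⟩
    refine K403.RatCrv.exists_iso_of_punct p hd hCn (w.inv ≫ g ≫ j) ?_ ?_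
    · rw [Category.assoc, Category.assoc, hjp, hg1, Iso.inv_comp_eq]
      change Spec.map _ = Spec.map _ ≫ Spec.map _
      rw [← Spec.map_comp]
      congr 1
      apply CommRingCat.hom_ext
      apply RingHom.ext
      intro c
      exact (E.commutes c).symm
    · rw [Scheme.Hom.comp_base, TopCat.coe_comp]
      refine DenseRange.comp ?_ w.inv.surjective.denseRange (g ≫ j).continuous
      rw [Scheme.Hom.comp_base, TopCat.coe_comp]
      exact hjd.comp hg2 j.continuous

end K403.HomogA
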