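import Groth.Agent.AlgGrp.K403.P1Fix3

/-! The complement of two closed points of the projective line over an algebraically closed field is the punctured
line. -/

set_option autoImplicit false
universe u
open CategoryTheory AlgebraicGeometry

namespace K403.P1Two

open Groth.Agent.Sga4h.H276.P1 K403.P1Fix K403.P1Aut K403.P1Fix3

variable {K : Type u} [Field K]

/-- the translation of the line. -/
noncomputable def trR (c : K) : Polynomial K →+* Polynomial K := (Polynomial.algEquivAevalXAddC c : Polynomial K →+* Polynomial K)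

lemma trR_C (c a : K) : trR c (Polynomial.C a) = Polynomial.C a := by
  simp [trR]

lemma trR_X (c : K) : trR c Polynomial.X = Polynomial.X + Polynomial.C c := by
  simp [trR, Polynomial.algEquivAevalXAddC]

lemma trR_comp (c d : K) : (trR c).comp (trR d) = trR (c + d) := by
  apply Polynomial.ringHom_ext
  · intro a
    simp [trR_C]
  · simp [trR_C, trR_X, add_assoc]

lemma trR_zero : trR (0 : K) = RingHom.id _ := by
  apply Polynomial.ringHom_ext
  · intro a
    simp [trR_C]
  · simp [trR_X]

/-- the translation of the line. -/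
noncomputable def tr (c : K) : A K ≅ A K where
  hom := Spec.map (CommRingCat.ofHom (trR c))
  inv := Spec.map (CommRingCat.ofHom (trR (-c)))
  hom_inv_id := by
    rw [← Spec.map_comp, ← CommRingCat.ofHom_comp, trR_comp, add_neg_cancel, trR_zero]
    exact Spec.map_id _
  inv_hom_id := by
    rw [← Spec.map_comp, ← CommRingCat.ofHom_comp, trR_comp, neg_add_cancel, trR_zero]
    exact Spec.map_id _

/-- the point of the line -/
noncomputable def lp (c : K) : Spec (CommRingCat.of K) ⟶ A K :=
  Spec.map (CommRingCat.ofHom (Polynomial.aeval (R := K) c).toRingHom)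

lemma lp_tr (a c : K) : lp a ≫ (tr c).hom = lp (a + c) := by
  change Spec.map _ ≫ Spec.map _ = Spec.map _
  rw [← Spec.map_comp, ← CommRingCat.ofHom_comp]
  congr 2
  apply Polynomial.ringHom_ext
  · intro b
    simp [trR_C]
  · simp [trR_X]

lemma lp_ch (c : K) : lp c ≫ ch K 0 = cp 0 c := rfl

lemma lp_zero (a : Spec (CommRingCat.of K)) : lp (0 : K) a = orig K := by
  apply PrimeSpectrum.ext
  change Ideal.comap _ _ = Ideal.span {Polynomial.X}
  ext p
  rw [Ideal.mem_comap, Ideal.mem_span_singleton, Polynomial.X_dvd_iff]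
  have ha : a.asIdeal = ⊥ := (Ideal.eq_bot_or_top a.asIdeal).resolve_right a.isPrime.ne_top
  rw [ha]
  change Polynomial.aeval (R := K) (0 : K) p = 0 ↔ _
  rw [Polynomial.aeval_def, Polynomial.eval₂_at_zero]
  simp

lemma compl_range_u0 : (Set.range (u K 0))ᶜ = {orig K} := by
  ext w
  rw [Set.mem_compl_iff, range_u, Set.mem_ofPred_eq, not_not, Set.mem_singleton_iff]
  constructor
  · intro h
    have h1 : Ideal.span {(Polynomial.X : Polynomial K)} ≤ w.asIdeal := by
      rw [Ideal.span_singleton_le_iff_mem]
      exact h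
    have h2 : (Ideal.span {(Polynomial.X : Polynomial K)}).IsMaximal :=
      PrincipalIdealRing.isMaximal_of_irreducible Polynomial.irreducible_X
    exact (PrimeSpectrum.ext (h2.eq_of_le w.isPrime.ne_top h1)).symm
  · rintro rfl
    exact X_mem_orig K

/-- the complement of two closed points is a punctured line. -/
theorem exists_punct [IsAlgClosed K] (P Q : CohB1.ProjSpace 1 K) (hP : IsClosed ({P} : Set (CohB1.ProjSpace 1 K)))
    (hQ : IsClosed ({Q} : Set (CohB1.ProjSpace 1 K))) (hPQ : P ≠ Q) :
    ∃ j : Spec (CommRingCat.of (LaurentPolynomial K)) ⟶ CohB1.ProjSpace 1 K, IsOpenImmersion j ∧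
      j ≫ CohB1.ProjSpace.toSpec 1 K = Spec.map (CommRingCat.ofHom (algebraMap K (LaurentPolynomial K))) ∧
      Set.range j = {P, Q}ᶜ := by
  obtain ⟨e, he, heP⟩ := exists_aut P hP
  have hei : e.inv ≫ CohB1.ProjSpace.toSpec 1 K = CohB1.ProjSpace.toSpec 1 K := by
    rw [Iso.inv_comp_eq, he]
  let zQ : Spec (CommRingCat.of K) ⟶ CohB1.ProjSpace 1 K := pointOfClosedPoint (CohB1.ProjSpace.toSpec 1 K) Q hQ
  have hzQ : zQ ≫ CohB1.ProjSpace.toSpec 1 K = 𝟙 _ := pointOfClosedPoint_comp _ _ _
  have hzQ' : ∀ a, zQ a = Q := fun a => pointOfClosedPoint_apply _ _ _ a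
  obtain ⟨c, hc⟩ := exists_cp (zQ ≫ e.hom) (by rw [Category.assoc, he, hzQ]) (by
    rw [Scheme.Hom.comp_apply, hzQ', ← heP]
    intro h
    exact hPQ (e.hom.isOpenEmbedding.injective h).symm)
  let j : Spec (CommRingCat.of (LaurentPolynomial K)) ⟶ CohB1.ProjSpace 1 K :=
    u K 0 ≫ (tr c).hom ≫ ch K 0 ≫ e.inv
  refine ⟨j, ?_, ?_, ?_⟩
  · infer_instance
  · have h1 : (tr c).hom ≫ Spec.map (CommRingCat.ofHom (Polynomial.C : K →+* Polynomial K)) =
        Spec.map (CommRingCat.ofHom (Polynomial.C : K →+* Polynomial K)) := by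
      change Spec.map _ ≫ Spec.map _ = Spec.map _
      rw [← Spec.map_comp, ← CommRingCat.ofHom_comp]
      congr 2
      apply RingHom.ext
      intro b
      exact trR_C c b
    have h2 := jj_str K
    rw [jj, Category.assoc] at h2
    have h3 := ch_str K 0
    simp only [j, Category.assoc]
    rw [hei]
    rw [h3] at h2 ⊢
    rw [h1, h2]
  · have h1 : (tr c).hom (orig K) = lp c (IsLocalRing.closedPoint K) := by
      rw [← lp_zero (IsLocalRing.closedPoint K), ← Scheme.Hom.comp_apply, lp_tr, zero_add]
    have h2 : ch K 0 ((tr c).hom (orig K)) = e.hom Q := by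
      rw [h1, ← Scheme.Hom.comp_apply, lp_ch, ← hc, Scheme.Hom.comp_apply, hzQ']
    have hcc := compl_range_ch K 0
    ext y
    constructor
    · rintro ⟨w, rfl⟩ h
      rw [Set.mem_insert_iff, Set.mem_singleton_iff] at h
      have h3 : e.hom (j w) = ch K 0 ((tr c).hom (u K 0 w)) := by
        simp only [j]
        rw [← Scheme.Hom.comp_apply, Category.assoc, Category.assoc, Category.assoc, e.inv_hom_id, Category.comp_id,
          Scheme.Hom.comp_apply, Scheme.Hom.comp_apply]
      rcases h with h | h
      · rw [h, heP] at h3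
        have h4 : x K 1 ∈ (Set.range (ch K 0))ᶜ := by rw [hcc]; rfl
        exact h4 ⟨_, h3.symm⟩
      · rw [h, ← h2] at h3
        have h4 := (tr c).hom.isOpenEmbedding.injective ((ch K 0).isOpenEmbedding.injective h3)
        have h5 : orig K ∈ (Set.range (u K 0))ᶜ := by rw [compl_range_u0]; rfl
        exact h5 ⟨w, h4.symm⟩
    · intro hy
      have h3 : e.hom y ∈ Set.range (ch K 0) := by
        by_contra h
        rw [← Set.mem_compl_iff, hcc, Set.mem_singleton_iff] at h
        apply hy
        left
        have h3 : e.hom y = e.hom P := by rw [h, heP]; rfl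
        exact e.hom.isOpenEmbedding.injective h3
      obtain ⟨w, hw⟩ := h3
      have h4 : (tr c).inv w ∈ Set.range (u K 0) := by
        by_contra h
        rw [← Set.mem_compl_iff, compl_range_u0, Set.mem_singleton_iff] at h
        apply hy
        right
        have h5 : w = (tr c).hom (orig K) := by
          rw [← h, ← Scheme.Hom.comp_apply, (tr c).inv_hom_id]
          rfl
        have h6 : e.hom y = e.hom Q := by rw [← hw, h5, h2]
        exact e.hom.isOpenEmbedding.injective h6
      obtain ⟨v, hv⟩ := h4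
      refine ⟨v, ?_⟩
      simp only [j]
      rw [Scheme.Hom.comp_apply, Scheme.Hom.comp_apply, Scheme.Hom.comp_apply, hv, ← Scheme.Hom.comp_apply (tr c).inv,
        (tr c).inv_hom_id]
      change e.inv (ch K 0 w) = y
      rw [hw, ← Scheme.Hom.comp_apply, e.hom_inv_id]
      rfl

end K403.P1Two
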