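import Groth.Agent.AlgGrp.K403.HomogA
import Groth.Agent.AlgGrp.K403.P1Two
import Groth.Agent.S14635
import Groth.Agent.Curves.K323.CurvePts

/-! Homogeneous open subschemes of the projective line over an algebraically closed field. -/

set_option autoImplicit false
universe u
open CategoryTheory MonoidalCategory CartesianMonoidalCategory MonObj GrpObj AlgebraicGeometry CategoryTheory.Limits
open Groth.Agent.Books.BorelOrb K403.Act K403.Dense K403.GeomPts K403.Orbits

namespace K403.HomogB

variable {K : Type u} [Field K]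

instance isIso_toUnit_KK : IsIso (toUnit (KK K K)) := by
  have h1 : IsIso (KK K K).hom := K403.HomogA.isIso_KK_hom
  have h2 : (toUnit (KK K K)).left = (KK K K).hom := Over.toUnit_left
  have : IsIso ((Over.forget _).map (toUnit (KK K K))) := by
    change IsIso (toUnit (KK K K)).left
    rw [h2]
    exact h1
  exact isIso_of_reflects_iso _ (Over.forget _)

/-- the point -/
noncomputable def tt : 𝟙_ (Over (Spec (CommRingCat.of K))) ⟶ KK K K := inv (toUnit (KK K K))

lemma toUnit_tt : toUnit (KK K K) ≫ tt = 𝟙 (KK K K) := IsIso.hom_inv_id _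

variable [IsAlgClosed K]

/-- the projective line -/
noncomputable abbrev PP (K : Type u) [Field K] : Over (Spec (CommRingCat.of K)) := Over.mk (CohB1.ProjSpace.toSpec 1 K)

theorem three_false {Q D : Over (Spec (CommRingCat.of K))} [GrpObj Q] [Smooth Q.hom] [QuasiCompact Q.hom]
    [ConnectedSpace Q.left] [IsSeparated D.hom] [Smooth D.hom] [QuasiCompact D.hom] [GeometricallyIntegral D.hom]
    (hdim : topologicalKrullDim D.left = 1) (j : D ⟶ PP K) [IsOpenImmersion j.left] (b : AlgGrp.Action Q D)
    (ht : Surjective (gr b).left) (P0 P1 P2 : CohB1.ProjSpace 1 K) (h0 : P0 ∉ Set.range j.left)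
    (h1 : P1 ∉ Set.range j.left) (h2 : P2 ∉ Set.range j.left) (h01 : P0 ≠ P1) (h02 : P0 ≠ P2) (h12 : P1 ≠ P2) : False := by
  have hDI : IsIntegral D.left := GeometricallyIntegral.isIntegral_of_subsingleton D.hom
  have hPI : IsIntegral (PP K).left := K403.P1Fix.isIntegral_P1 K
  have hPP : IsProper (PP K).hom := Groth.Agent.Sga4h.H276.P1.proper_str K
  have hPd : topologicalKrullDim (PP K).left = 1 := Groth.Agent.Models.H59.P1Fibre.topologicalKrullDim_P1 K
  have hPs : Smooth (PP K).hom := Groth.Agent.Models.H59.P1Fibre.smooth_toSpec K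
  have hreg : ∀ {X : Scheme.{u}} (f : X ⟶ Spec (CommRingCat.of K)) [Smooth f], Models.IsRegularScheme X := by
    intro X f _ x
    exact Groth.Agent.VarietyA.RegSmoothSch.isRegularLocalRing_stalk_of_mem_smoothLocus f x
      (by rw [f.smoothLocus_eq_top]; trivial)
  have hdense : DenseRange j.left.base :=
    j.left.isOpenEmbedding.isOpen_range.dense ⟨_, ⟨genericPoint D.left, rfl⟩⟩
  obtain ⟨⟨bb, hbb, -⟩, hfix⟩ := Groth.Agent.S14635.result K Q D (PP K) hdim (hreg D.hom) hPd (hreg (PP K).hom) j hdense b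
  have hcl : ∀ P : CohB1.ProjSpace 1 K, P ∉ Set.range j.left → ∃ z : KK K K ⟶ PP K, ∀ a, z.left a = P := by
    intro P hP
    apply exists_pt_of_isClosed
    apply Groth.Agent.Curves.K323.CurvePts.isClosed_of_ne _ hPd.le
    rintro rfl
    exact hP ⟨genericPoint D.left, genericPoint_eq_of_isOpenImmersion j.left⟩
  obtain ⟨z0, hz0⟩ := hcl P0 h0
  obtain ⟨z1, hz1⟩ := hcl P1 h1
  obtain ⟨z2, hz2⟩ := hcl P2 h2
  have hzz : ∀ z : KK K K ⟶ PP K, z.left ≫ CohB1.ProjSpace.toSpec 1 K = 𝟙 _ := by
    intro z
    have h3 : z.left ≫ (PP K).hom = (KK K K).hom := Over.w z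
    have h4 : CommRingCat.ofHom (algebraMap K K) = 𝟙 _ := rfl
    change z.left ≫ (PP K).hom = _
    rw [h3]
    change Spec.map (CommRingCat.ofHom (algebraMap K K)) = _
    rw [h4, Spec.map_id]
    rfl
  have htr : ∀ (g : KK K K ⟶ Q) (z : KK K K ⟶ PP K), z ≫ tr bb (tt ≫ g) = sm bb g z := by
    intro g z
    rw [comp_tr, ← Category.assoc, toUnit_tt, Category.id_comp]
  have key : ∀ g : KK K K ⟶ Q, tr bb (tt ≫ g) = 𝟙 _ := by
    intro g
    have hz : ∀ z : KK K K ⟶ PP K, (∀ p, z.left.base p ∉ Set.range j.left.base) →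
        z.left ≫ (tr bb (tt ≫ g)).left = z.left := by
      intro z hz
      rw [← Over.comp_left, htr]
      exact congrArg (fun y => y.left) (hfix bb hbb K z g hz)
    have hne : ∀ (z z' : KK K K ⟶ PP K) (P P' : CohB1.ProjSpace 1 K), (∀ a, z.left a = P) → (∀ a, z'.left a = P') →
        P ≠ P' → z.left ≠ z'.left := by
      intro z z' P P' hz hz' hP h
      apply hP
      rw [← hz (pt0 K K), ← hz' (pt0 K K), h]
    let φ : CohB1.ProjSpace 1 K ≅ CohB1.ProjSpace 1 K := (Over.forget _).mapIso (trIso bb (tt ≫ g))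
    have hφ : φ.hom = (tr bb (tt ≫ g)).left := rfl
    have h3 := K403.P1Fix3.eq_id_of_fix_three φ (by rw [hφ]; exact Over.w (tr bb (tt ≫ g))) z0.left z1.left z2.left
      (hzz z0) (hzz z1) (hzz z2) (hne _ _ _ _ hz0 hz1 h01) (hne _ _ _ _ hz0 hz2 h02) (hne _ _ _ _ hz1 hz2 h12)
      (by rw [hφ]; exact hz z0 (fun p => by rw [hz0]; exact h0))
      (by rw [hφ]; exact hz z1 (fun p => by rw [hz1]; exact h1))
      (by rw [hφ]; exact hz z2 (fun p => by rw [hz2]; exact h2))
    ext1
    exact h3
  have key2 : ∀ (g : KK K K ⟶ Q) (x : KK K K ⟶ D), sm b g x = x := by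
    intro g x
    have hm : Mono j := inferInstance
    rw [← cancel_mono j, sm_comp_of_equivariant hbb, ← htr, key, Category.comp_id]
  have key3 : ∀ x y : D.left, IsClosed ({x} : Set D.left) → IsClosed ({y} : Set D.left) → x = y := by
    intro x y hx hy
    obtain ⟨zx, hzx⟩ := exists_pt_of_isClosed K x hx
    obtain ⟨zy, hzy⟩ := exists_pt_of_isClosed K y hy
    obtain ⟨g, hg⟩ := exists_sm_of_surjective_gr (K := K) b ht zx zy
    rw [key2] at hg
    rw [← hzx (pt0 K K), ← hzy (pt0 K K), hg]
  have hJ : JacobsonSpace D.left := LocallyOfFiniteType.jacobsonSpace D.hom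
  obtain ⟨x, -, hx⟩ := nonempty_inter_closedPoints (X := D.left) (Z := Set.univ) Set.univ_nonempty isClosed_univ.isLocallyClosed
  have hcp : closedPoints D.left = {x} := by
    ext y
    exact ⟨fun hy => key3 _ _ hy hx, fun hy => by rw [hy]; exact hx⟩
  have hcl : (Set.univ : Set D.left) = {x} := by
    have h3 := closure_closedPoints (X := D.left)
    rw [hcp, hx.closure_eq] at h3
    exact h3.symm
  have hsub : Subsingleton D.left := by
    constructor
    intro y y'
    have h3 : y ∈ ({x} : Set D.left) := by rw [← hcl]; trivial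
    have h4 : y' ∈ ({x} : Set D.left) := by rw [← hcl]; trivial
    rw [Set.mem_singleton_iff] at h3 h4
    rw [h3, h4]
  have h5 : topologicalKrullDim D.left ≤ 0 := by
    have : DiscreteTopology D.left := inferInstance
    exact topologicalKrullDim_zero_of_discreteTopology D.left
  rw [hdim] at h5
  exact absurd h5 (by decide)

/-- **Classification** of homogeneous open subschemes of the projective line. -/
theorem classify {Q D : Over (Spec (CommRingCat.of K))} [GrpObj Q] [Smooth Q.hom] [QuasiCompact Q.hom]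
    [ConnectedSpace Q.left] [IsSeparated D.hom] [Smooth D.hom] [QuasiCompact D.hom] [GeometricallyIntegral D.hom]
    (hdim : topologicalKrullDim D.left = 1) (j : D ⟶ PP K) [IsOpenImmersion j.left] (b : AlgGrp.Action Q D)
    (ht : Surjective (gr b).left) :
    (∃ e : D.left ≅ CohB1.ProjSpace 1 K, e.hom ≫ CohB1.ProjSpace.toSpec 1 K = D.hom) ∨
    (∃ e : D.left ≅ Spec (CommRingCat.of (Polynomial K)),
      e.hom ≫ Spec.map (CommRingCat.ofHom (algebraMap K (Polynomial K))) = D.hom) ∨
    (∃ e : D.left ≅ Spec (CommRingCat.of (LaurentPolynomial K)),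
      e.hom ≫ Spec.map (CommRingCat.ofHom (algebraMap K (LaurentPolynomial K))) = D.hom) := by
  have hDI : IsIntegral D.left := GeometricallyIntegral.isIntegral_of_subsingleton D.hom
  have hPI : IsIntegral (PP K).left := K403.P1Fix.isIntegral_P1 K
  have hPd : topologicalKrullDim (PP K).left = 1 := Groth.Agent.Models.H59.P1Fibre.topologicalKrullDim_P1 K
  have hjw : j.left ≫ CohB1.ProjSpace.toSpec 1 K = D.hom := Over.w j
  have hcl : ∀ P : CohB1.ProjSpace 1 K, P ∉ Set.range j.left → IsClosed ({P} : Set (CohB1.ProjSpace 1 K)) := by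
    intro P hP
    apply Groth.Agent.Curves.K323.CurvePts.isClosed_of_ne _ hPd.le
    rintro rfl
    exact hP ⟨genericPoint D.left, genericPoint_eq_of_isOpenImmersion j.left⟩
  by_cases h0 : ∃ P0, P0 ∉ Set.range j.left
  · obtain ⟨P0, h0⟩ := h0
    by_cases h1 : ∃ P1, P1 ∉ Set.range j.left ∧ P1 ≠ P0
    · obtain ⟨P1, h1, h10⟩ := h1
      right; right
      obtain ⟨i, hi1, hi2, hi3⟩ := K403.P1Two.exists_punct P0 P1 (hcl P0 h0) (hcl P1 h1) h10.symm
      have hr : Set.range j.left = Set.range i := by
        rw [hi3]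
        ext y
        constructor
        · rintro ⟨w, rfl⟩ h
          rcases h with h | h
          · exact h0 ⟨w, h⟩
          · exact h1 ⟨w, h⟩
        · intro hy
          by_contra h
          refine three_false hdim j b ht P0 P1 y h0 h1 h h10.symm ?_ ?_
          · rintro rfl
            exact hy (Or.inl rfl)
          · rintro rfl
            exact hy (Or.inr rfl)
      refine ⟨IsOpenImmersion.isoOfRangeEq j.left i hr, ?_⟩
      rw [← hi2, ← Category.assoc, IsOpenImmersion.isoOfRangeEq_hom_fac, hjw]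
    · push Not at h1
      right; left
      obtain ⟨i, hi1, hi2, hi3⟩ := K403.P1Aut.exists_line P0 (hcl P0 h0)
      have hr : Set.range j.left = Set.range i := by
        rw [hi3]
        ext y
        constructor
        · rintro ⟨w, rfl⟩ h
          exact h0 ⟨w, h⟩
        · intro hy
          by_contra h
          exact hy (h1 y h)
      refine ⟨IsOpenImmersion.isoOfRangeEq j.left i hr, ?_⟩
      change _ ≫ Spec.map (CommRingCat.ofHom (Polynomial.C : K →+* Polynomial K)) = _
      rw [← hi2, ← Category.assoc, IsOpenImmersion.isoOfRangeEq_hom_fac, hjw]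
  · push Not at h0
    left
    have h1 : Epi j.left.base := by
      rw [TopCat.epi_iff_surjective]
      exact h0
    have : IsIso j.left := IsOpenImmersion.isIso j.left
    exact ⟨asIso j.left, hjw⟩

end K403.HomogB
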