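import Groth.Agent.AlgGrp.K403.HomogC
import Groth.Prelude.Def_ActBC
import Mathlib.AlgebraicGeometry.Morphisms.FlatDescent

/-! Base change of homogeneous spaces. -/

set_option autoImplicit false
universe u
open CategoryTheory MonoidalCategory CartesianMonoidalCategory MonObj GrpObj AlgebraicGeometry CategoryTheory.Limits
open K403.Orbits

namespace K403.HomogBc

theorem isPullback_map {S S' : Scheme.{u}} (a : S' ⟶ S) {X Y : Over S} (f : X ⟶ Y) :
    IsPullback (pullback.fst X.hom a) ((Over.pullback a).map f).left f.left (pullback.fst Y.hom a) := by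
  have h1 : IsPullback (pullback.fst Y.hom a) (pullback.snd Y.hom a) Y.hom a := IsPullback.of_hasPullback _ _
  have h2 : IsPullback (pullback.fst X.hom a) (pullback.snd X.hom a) X.hom a := IsPullback.of_hasPullback _ _
  have e1 : ((Over.pullback a).map f).left ≫ pullback.fst Y.hom a = pullback.fst X.hom a ≫ f.left := by
    exact pullback.lift_fst _ _ _
  have e2 : ((Over.pullback a).map f).left ≫ pullback.snd Y.hom a = pullback.snd X.hom a := by
    exact pullback.lift_snd _ _ _
  have e3 : f.left ≫ Y.hom = X.hom := Over.w f
  have h3 : IsPullback (pullback.fst X.hom a) (((Over.pullback a).map f).left ≫ pullback.snd Y.hom a)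
      (f.left ≫ Y.hom) a := by
    rw [e2, e3]
    exact h2
  exact IsPullback.of_bot h3 e1.symm h1

/-- base change of the graph morphism -/
theorem gr_bc {S S' : Scheme.{u}} (f : S' ⟶ S) {G X : Over S} [GrpObj G] (a : AlgGrp.Action G X)
    (h : Surjective (lift (snd G X) a.act).left) : Surjective (lift (snd (Red.bc f G) (Red.bc f X)) (a.bc f).act).left := by
  have h1 : lift (snd (Red.bc f G) (Red.bc f X)) (a.bc f).act ≫ Functor.LaxMonoidal.μ (Over.pullback f) X X =
      Functor.LaxMonoidal.μ (Over.pullback f) G X ≫ (Over.pullback f).map (lift (snd G X) a.act) := by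
    have h2 : lift (snd (Red.bc f G) (Red.bc f X)) (a.bc f).act =
        lift (Functor.LaxMonoidal.μ (Over.pullback f) G X ≫ (Over.pullback f).map (snd G X))
          (Functor.LaxMonoidal.μ (Over.pullback f) G X ≫ (Over.pullback f).map a.act) := by
      rw [AlgGrp.Action.bc_act]
      congr 1
      exact (Functor.Monoidal.μ_snd (Over.pullback f) G X).symm
    rw [h2, ← comp_lift, Category.assoc]
    congr 1
    rw [Functor.Monoidal.lift_μ]
  have h3 : IsIso (Functor.LaxMonoidal.μ (Over.pullback f) X X) := inferInstance
  have h4 : lift (snd (Red.bc f G) (Red.bc f X)) (a.bc f).act =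
      Functor.LaxMonoidal.μ (Over.pullback f) G X ≫ (Over.pullback f).map (lift (snd G X) a.act) ≫
        inv (Functor.LaxMonoidal.μ (Over.pullback f) X X) := by
    rw [← Category.assoc, ← h1, Category.assoc, IsIso.hom_inv_id, Category.comp_id]
  rw [h4, Over.comp_left, Over.comp_left]
  have h5 : IsIso (Functor.LaxMonoidal.μ (Over.pullback f) G X).left :=
    inferInstanceAs (IsIso ((Over.forget _).map (Functor.LaxMonoidal.μ (Over.pullback f) G X)))
  have h6 : IsIso (inv (Functor.LaxMonoidal.μ (Over.pullback f) X X)).left :=
    inferInstanceAs (IsIso ((Over.forget _).map (inv (Functor.LaxMonoidal.μ (Over.pullback f) X X))))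
  have h7 : Surjective ((Over.pullback f).map (lift (snd G X) a.act)).left := by
    exact MorphismProperty.of_isPullback (P := @Surjective) (isPullback_map f (lift (snd G X) a.act)) h
  infer_instance

end K403.HomogBc
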