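import Groth.Agent.AlgGrp.K403.HomogB
import Groth.Agent.AlgGrp.K403.AbOrb
import Groth.Agent.AlgGrp.K403.EllGenus
import Groth.Agent.AlgGrp.K399.Basic

/-! Homogeneous smooth curves over an algebraically closed field. -/

set_option autoImplicit false
universe u
open CategoryTheory MonoidalCategory CartesianMonoidalCategory MonObj GrpObj AlgebraicGeometry CategoryTheory.Limits
open Groth.Agent.Books.BorelOrb K403.Act K403.Dense K403.GeomPts K403.Orbits K403.HomogB K403.QuotAct

namespace K403.HomogC

variable {K : Type u} [Field K] [IsAlgClosed K]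

theorem proper_case {Q D : Over (Spec (CommRingCat.of K))} [GrpObj Q] [Smooth Q.hom] [QuasiCompact Q.hom]
    [ConnectedSpace Q.left] [IsSeparated D.hom] [Smooth D.hom] [QuasiCompact D.hom] [GeometricallyIntegral D.hom]
    (hdim : topologicalKrullDim D.left = 1) (b : AlgGrp.Action Q D)
    (hf : ∀ {T : Over (Spec (CommRingCat.of K))} (q : T ⟶ Q), Triv b q → q = 1)
    (ht : Surjective (gr b).left) [IsProper Q.hom] : IsProper D.hom ∧
      letI : D.left.Over (Spec (CommRingCat.of K)) := ⟨D.hom⟩
      Curv2.genus K D.left = 1 := by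
  have hDI : IsIntegral D.left := GeometricallyIntegral.isIntegral_of_subsingleton D.hom
  have hQI : GeometricallyIntegral Q.hom := K399.Basic.geometricallyIntegral Q
  obtain ⟨z, -⟩ := exists_pt_mem (K := K) (⊤ : D.left.Opens) ⟨genericPoint D.left, trivial⟩
  let x : 𝟙_ (Over (Spec (CommRingCat.of K))) ⟶ D := tt ≫ z
  have hs : Surjective (b.orbitMap x).left := by
    apply surjective_of_pts (K := K)
    intro y
    obtain ⟨g, hg⟩ := exists_sm_of_surjective_gr (K := K) b ht z y
    refine ⟨g, ?_⟩
    rw [comp_orbitMap, ← Category.assoc, toUnit_tt, Category.id_comp, hg]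
  have hiso : IsIso (b.orbitMap x).left := K403.AbOrb.isIso_orbitMap b hf x hs
  have hiso' : IsIso (b.orbitMap x) := by
    have : IsIso ((Over.forget _).map (b.orbitMap x)) := hiso
    exact isIso_of_reflects_iso _ (Over.forget _)
  have hprop : IsProper D.hom := by
    have h1 : (inv (b.orbitMap x).left) ≫ Q.hom = D.hom := by
      rw [IsIso.inv_comp_eq, Over.w]
    rw [← h1]
    infer_instance
  refine ⟨hprop, ?_⟩
  let iD : GrpObj D := GrpObj.ofIso (asIso (b.orbitMap x))
  refine K403.EllGenus.genus_eq_one D hdim ?_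
  let _ : D.left.Over (Spec (CommRingCat.of K)) := ⟨D.hom⟩
  have : IsProper (D.left ↘ (Spec (CommRingCat.of K))) := hprop
  exact Groth.Agent.VarietyA.CurveFin.finrank_h0_structure K D.left

theorem main {G D : Over (Spec (CommRingCat.of K))} [GrpObj G] [Smooth G.hom] [QuasiCompact G.hom]
    [ConnectedSpace G.left] [IsSeparated D.hom] [Smooth D.hom] [QuasiCompact D.hom] [GeometricallyIntegral D.hom]
    (hdim : topologicalKrullDim D.left = 1) (a : AlgGrp.Action G D) (ht : Surjective (gr a).left) :
    (∃ e : D.left ≅ CohB1.ProjSpace 1 K, e.hom ≫ CohB1.ProjSpace.toSpec 1 K = D.hom) ∨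
    (∃ e : D.left ≅ Spec (CommRingCat.of (Polynomial K)),
      e.hom ≫ Spec.map (CommRingCat.ofHom (algebraMap K (Polynomial K))) = D.hom) ∨
    (∃ e : D.left ≅ Spec (CommRingCat.of (LaurentPolynomial K)),
      e.hom ≫ Spec.map (CommRingCat.ofHom (algebraMap K (LaurentPolynomial K))) = D.hom) ∨
    (IsProper D.hom ∧
      letI : D.left.Over (Spec (CommRingCat.of K)) := ⟨D.hom⟩
      Curv2.genus K D.left = 1) := by
  obtain ⟨Q, iQ, π, b, hπ, hfl, hsurj, hsm, hqc, hsep, hab, hfaith⟩ := K403.KerAct.exists_faithful a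
  have hconn : ConnectedSpace Q.left := π.left.surjective.connectedSpace π.left.continuous
  have ht' : Surjective (gr b).left := by
    have h1 : gr a = (π ▷ D) ≫ gr b := comp_graph π hab
    rw [h1, Over.comp_left] at ht
    exact Surjective.of_comp (π ▷ D).left (gr b).left
  by_cases hQ : IsProper Q.hom
  · right; right; right
    exact proper_case hdim b hfaith ht'
  · obtain ⟨j, hj⟩ := K403.HomogA.exists_P1 hQ hdim b hfaith
    rcases classify hdim j b ht' with h | h | h
    · exact Or.inl h
    · exact Or.inr (Or.inl h)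
    · exact Or.inr (Or.inr (Or.inl h))

end K403.HomogC
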