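import Mathlib.Algebra.Polynomial.Laurent
import Mathlib.RingTheory.TensorProduct.MonoidAlgebra
import Mathlib.Algebra.MonoidAlgebra.NoZeroDivisors
import Mathlib.Algebra.Group.UniqueProds.VectorSpace

/-! Units of Laurent polynomial rings over domains; units of k[T,T⁻¹] ⊗ k[T,T⁻¹]. -/

open LaurentPolynomial TensorProduct

namespace K403.LaurUnit

theorem exists_of_mul_eq_one {R : Type*} [CommRing R] [IsDomain R] (f g : R[T;T⁻¹]) (h : f * g = 1) :
    ∃ (c : R) (n : ℤ), f = C c * T n ∧ IsUnit c := by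
  have hf0 : f ≠ 0 := by rintro rfl; simp at h
  have hg0 : g ≠ 0 := by rintro rfl; simp at h
  have hone : ∀ r : ℤ, r ≠ 0 → (1 : R[T;T⁻¹]).coeff r = 0 := by
    intro r hr
    rw [AddMonoidAlgebra.one_def, AddMonoidAlgebra.coeff_single]
    exact Finsupp.single_eq_of_ne hr
  by_cases hcard : 1 < f.coeff.support.card * g.coeff.support.card
  · exfalso
    obtain ⟨p, hp, q, hq, hne, hp1, hq1⟩ := TwoUniqueSums.uniqueAdd_of_one_lt_card hcard
    have key : ∀ r : ℤ × ℤ, r ∈ f.coeff.support ×ˢ g.coeff.support →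
        UniqueAdd f.coeff.support g.coeff.support r.1 r.2 → r.1 + r.2 = 0 := by
      intro r hr hu
      have h1 := AddMonoidAlgebra.coeff_mul_add_of_uniqueAdd hu
      by_contra h0
      rw [h, hone _ h0] at h1
      have := (mul_eq_zero.mp h1.symm)
      rw [Finset.mem_product, Finsupp.mem_support_iff, Finsupp.mem_support_iff] at hr
      tauto
    have h1 := key p hp hp1
    have h2 := key q hq hq1
    rw [Finset.mem_product] at hp hq
    obtain ⟨h3, h4⟩ := hp1 hq.1 hq.2 (h2.trans h1.symm)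
    exact hne (Prod.ext h3.symm h4.symm)
  · have hf1 : f.coeff.support.card ≠ 0 := by
      intro h0
      exact hf0 (AddMonoidAlgebra.coeff_eq_zero.mp (Finsupp.support_eq_empty.mp (Finset.card_eq_zero.mp h0)))
    have hg1 : g.coeff.support.card ≠ 0 := by
      intro h0
      exact hg0 (AddMonoidAlgebra.coeff_eq_zero.mp (Finsupp.support_eq_empty.mp (Finset.card_eq_zero.mp h0)))
    have hf2 : f.coeff.support.card = 1 := by
      nlinarith [Nat.one_le_iff_ne_zero.mpr hf1, Nat.one_le_iff_ne_zero.mpr hg1]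
    have hg2 : g.coeff.support.card = 1 := by
      nlinarith [Nat.one_le_iff_ne_zero.mpr hf1, Nat.one_le_iff_ne_zero.mpr hg1]
    obtain ⟨n, c, hc, hfn⟩ := Finsupp.card_support_eq_one'.mp hf2
    obtain ⟨m, d, hd, hgm⟩ := Finsupp.card_support_eq_one'.mp hg2
    have hf : f = AddMonoidAlgebra.single n c := AddMonoidAlgebra.coeff_inj.mp hfn
    have hg : g = AddMonoidAlgebra.single m d := AddMonoidAlgebra.coeff_inj.mp hgm
    refine ⟨c, n, by rw [hf, single_eq_C_mul_T], ?_⟩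
    rw [hf, hg, AddMonoidAlgebra.single_mul_single, AddMonoidAlgebra.one_def] at h
    have h5 := congrArg AddMonoidAlgebra.coeff h
    rw [AddMonoidAlgebra.coeff_single, AddMonoidAlgebra.coeff_single, Finsupp.single_eq_single_iff] at h5
    rcases h5 with ⟨-, h6⟩ | ⟨-, h6⟩
    · exact IsUnit.of_mul_eq_one _ h6
    · exact absurd h6 one_ne_zero

theorem exists_of_isUnit {R : Type*} [CommRing R] [IsDomain R] {f : R[T;T⁻¹]} (h : IsUnit f) :
    ∃ (c : R) (n : ℤ), f = C c * T n ∧ IsUnit c := by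
  obtain ⟨g, hg⟩ := h.exists_right_inv
  exact exists_of_mul_eq_one f g hg

variable {k : Type*} [Field k]

/-- Units of `k[T,T⁻¹] ⊗ k[T,T⁻¹]` are `c • (T^m ⊗ T^n)`. -/
theorem exists_of_isUnit_tensor {u : k[T;T⁻¹] ⊗[k] k[T;T⁻¹]} (h : IsUnit u) :
    ∃ (c : k) (m n : ℤ), u = c • ((T m : k[T;T⁻¹]) ⊗ₜ[k] (T n : k[T;T⁻¹])) := by
  have h1 : IsUnit ((AddMonoidAlgebra.scalarTensorEquiv k (M := ℤ) k[T;T⁻¹]) u) := h.map _
  obtain ⟨c, n, hu, hc⟩ := exists_of_isUnit (R := k[T;T⁻¹]) h1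
  obtain ⟨d, m, hu', hd⟩ := exists_of_isUnit (R := k) hc
  refine ⟨d, m, n, ?_⟩
  apply (AddMonoidAlgebra.scalarTensorEquiv k (M := ℤ) k[T;T⁻¹]).injective
  rw [hu, hu', smul_tmul', AddMonoidAlgebra.scalarTensorEquiv_tmul]
  have : (AddMonoidAlgebra.mapAlgHom ℤ (Algebra.ofId k k[T;T⁻¹])) (T n : k[T;T⁻¹]) = (T n : k[T;T⁻¹][T;T⁻¹]) := by
    rw [T, AddMonoidAlgebra.mapAlgHom_single, map_one]; rfl
  rw [this, LaurentPolynomial.smul_eq_C_mul, LaurentPolynomial.smul_eq_C_mul]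

/-- An algebra map `δ : k[T,T⁻¹] → k[T,T⁻¹] ⊗ k[T,T⁻¹]` with counit `T ↦ 1` sends `T` to `T ⊗ T`. -/
theorem comul_eq (δ : k[T;T⁻¹] →+* k[T;T⁻¹] ⊗[k] k[T;T⁻¹]) (ε : k[T;T⁻¹] →ₐ[k] k) (hε : ε (T 1) = 1)
    (h1 : (Algebra.TensorProduct.rid k k k[T;T⁻¹]) (Algebra.TensorProduct.map (AlgHom.id k k[T;T⁻¹]) ε (δ (T 1))) = T 1)
    (h2 : (Algebra.TensorProduct.lid k k[T;T⁻¹]) (Algebra.TensorProduct.map ε (AlgHom.id k k[T;T⁻¹]) (δ (T 1))) = T 1) :
    δ (T 1) = T 1 ⊗ₜ T 1 := by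
  obtain ⟨c, m, n, hu⟩ := exists_of_isUnit_tensor (k := k) ((isUnit_T 1).map δ)
  have hεn : ∀ n : ℕ, ε (T n) = 1 := by
    intro n
    have : (T n : k[T;T⁻¹]) = T 1 ^ n := by rw [T_pow, mul_one]
    rw [this, map_pow, hε, one_pow]
  have hε' : ∀ n : ℤ, ε (T n) = 1 := by
    intro n
    obtain ⟨m, rfl | rfl⟩ := n.eq_nat_or_neg
    · exact hεn m
    · have h3 : (T (-(m : ℤ)) : k[T;T⁻¹]) * T m = 1 := by
        rw [← T_add, neg_add_cancel, T_zero]
      have h4 := congrArg ε h3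
      rw [map_mul, hεn, mul_one, map_one] at h4
      exact h4
  rw [hu] at h1 h2 ⊢
  simp only [map_smul, Algebra.TensorProduct.map_tmul, AlgHom.coe_id, id_eq, hε'] at h1 h2
  have h1' : c • (T m : k[T;T⁻¹]) = T 1 := by
    rw [← h1]; simp
  have h2' : c • (T n : k[T;T⁻¹]) = T 1 := by
    rw [← h2]; simp
  have key : ∀ m : ℤ, c • (T m : k[T;T⁻¹]) = T 1 → c = 1 ∧ m = 1 := by
    intro m hm
    rw [LaurentPolynomial.smul_eq_C_mul, ← single_eq_C_mul_T] at hm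
    have h5 := congrArg AddMonoidAlgebra.coeff hm
    rw [AddMonoidAlgebra.coeff_single, T, AddMonoidAlgebra.coeff_single, Finsupp.single_eq_single_iff] at h5
    rcases h5 with ⟨h6, h7⟩ | ⟨-, h6⟩
    · exact ⟨h7, h6⟩
    · exact absurd h6 one_ne_zero
  obtain ⟨rfl, rfl⟩ := key m h1'
  obtain ⟨-, rfl⟩ := key n h2'
  rw [one_smul]

end K403.LaurUnit
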