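import Groth.Agent.AlgGrp.K403.Act2
import Groth.Agent.AlgGrp.K403.Dense
import Mathlib.AlgebraicGeometry.Morphisms.Finite
import Mathlib.AlgebraicGeometry.PullbackCarrier

/-! Dominance can be tested after composing with a closed modification. -/

set_option autoImplicit false
universe u
open CategoryTheory MonoidalCategory CartesianMonoidalCategory MonObj GrpObj AlgebraicGeometry Limits
open K403.Dense

namespace K403.Modif

variable {S : Scheme.{u}} {U X Y : Over S}

/-- `f : Y ⟶ X` is an isomorphism over the image of `j : U ⟶ Y` (formulated on points). -/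
def IsoOver (j : U ⟶ Y) (f : Y ⟶ X) : Prop :=
  ∀ {T : Over S} (u : T ⟶ U) (y : T ⟶ Y), u ≫ j ≫ f = y ≫ f → u ≫ j = y

lemma IsoOver.whiskerLeft {j : U ⟶ Y} {f : Y ⟶ X} (h : IsoOver j f) (T : Over S) :
    IsoOver (T ◁ j) (T ◁ f) := by
  intro Q u y huy
  have h1 : (u ≫ snd T U) ≫ j ≫ f = (y ≫ snd T Y) ≫ f := by
    have := congrArg (fun z => z ≫ snd T X) huy
    simpa using this
  have h2 : u ≫ fst T U = y ≫ fst T Y := by
    have := congrArg (fun z => z ≫ fst T X) huy
    simpa using this
  apply CartesianMonoidalCategory.hom_ext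
  · simpa using h2
  · have := h _ _ h1
    simpa using this

lemma IsoOver.whiskerRight {j : U ⟶ Y} {f : Y ⟶ X} (h : IsoOver j f) (T : Over S) :
    IsoOver (j ▷ T) (f ▷ T) := by
  intro Q u y huy
  have h1 : (u ≫ fst U T) ≫ j ≫ f = (y ≫ fst Y T) ≫ f := by
    have := congrArg (fun z => z ≫ fst X T) huy
    simpa using this
  have h2 : u ≫ snd U T = y ≫ snd Y T := by
    have := congrArg (fun z => z ≫ snd X T) huy
    simpa using this
  apply CartesianMonoidalCategory.hom_ext
  · have := h _ _ h1
    simpa using this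
  · simpa using h2

lemma IsoOver.eq_of_apply_eq {j : U ⟶ Y} {f : Y ⟶ X} (h : IsoOver j f) (u : U.left) (y : Y.left)
    (huy : (j ≫ f).left u = f.left y) : j.left u = y := by
  obtain ⟨p, hp1, hp2⟩ := Scheme.Pullback.exists_preimage_pullback u y huy
  let P : Over S := Over.mk (pullback.fst (j ≫ f).left f.left ≫ U.hom)
  let a : P ⟶ U := Over.homMk (pullback.fst (j ≫ f).left f.left) rfl
  let b : P ⟶ Y := Over.homMk (pullback.snd (j ≫ f).left f.left) (by
    change _ = pullback.fst (j ≫ f).left f.left ≫ U.hom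
    rw [← Over.w (j ≫ f), pullback.condition_assoc, Over.w f])
  have h1 : a ≫ j ≫ f = b ≫ f := by
    ext1
    exact pullback.condition
  have h2 := congrArg (fun z => z.left) (h a b h1)
  rw [← hp1, ← hp2]
  exact congrArg (fun z => z p) h2

/-- Dominance can be tested after composing with a closed modification. -/
theorem isDominant_of_comp {j : U ⟶ Y} {f : Y ⟶ X} (h : IsoOver j f) (hf : IsClosedMap f.left)
    [IsDominant j.left] {T : Over S} (α : T ⟶ Y) (hα : IsDominant (α ≫ f).left) : IsDominant α.left := by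
  refine ⟨?_⟩
  rw [DenseRange, dense_iff_closure_eq]
  let Z : Set Y.left := closure (Set.range α.left)
  have h1 : f.left '' Z = Set.univ := by
    have h2 : IsClosed (f.left '' Z) := hf _ isClosed_closure
    rw [← h2.closure_eq, ← dense_iff_closure_eq]
    refine Dense.mono ?_ hα.1
    rw [Over.comp_left]
    rintro _ ⟨t, rfl⟩
    exact ⟨α.left t, subset_closure ⟨t, rfl⟩, rfl⟩
  have h3 : Set.range j.left ⊆ Z := by
    rintro _ ⟨u, rfl⟩
    have h4 : (j ≫ f).left u ∈ f.left '' Z := by rw [h1]; trivial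
    obtain ⟨y, hy, hy'⟩ := h4
    rw [h.eq_of_apply_eq u y hy'.symm]
    exact hy
  have h5 : closure (Set.range j.left) = Set.univ := j.left.denseRange.closure_eq
  rw [← Set.univ_subset_iff, ← h5]
  exact closure_minimal h3 isClosed_closure

/-- the modification given by an open over which `f` is an isomorphism. -/
theorem isoOver_of_isIso (f : Y ⟶ X) (V : X.left.Opens) [IsIso (f.left ∣_ V)] :
    IsoOver (Over.homMk (f.left ⁻¹ᵁ V).ι rfl : Over.mk ((f.left ⁻¹ᵁ V).ι ≫ Y.hom) ⟶ Y) f := by
  intro T u y huy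
  have hp := isPullback_morphismRestrict f.left V
  have h1 : u.left ≫ (f.left ⁻¹ᵁ V).ι ≫ f.left = y.left ≫ f.left := congrArg (fun z => z.left) huy
  have h2 : (u.left ≫ (f.left ∣_ V)) ≫ V.ι = y.left ≫ f.left := by
    rw [Category.assoc, morphismRestrict_ι, h1]
  have h3 : hp.lift (u.left ≫ (f.left ∣_ V)) y.left h2 = u.left := by
    rw [← cancel_mono (f.left ∣_ V), hp.lift_fst]
  ext1
  change u.left ≫ (f.left ⁻¹ᵁ V).ι = y.left
  rw [← h3, hp.lift_snd]

end K403.Modif
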