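import Groth.Agent.AlgGrp.K403.GeomPts2
import Groth.Agent.AlgGrp.K403.Act2
import Groth.Agent.AlgGrp.K403.Dense

/-! Orbits of geometric points. -/

set_option autoImplicit false
universe u
open CategoryTheory MonoidalCategory CartesianMonoidalCategory MonObj GrpObj AlgebraicGeometry Limits Topology
open Groth.Agent.Books.BorelOrb K403.Act K403.GeomPts K403.Dense

namespace K403.Orbits

/-- A dense locally constructible subset of an irreducible sober space contains a nonempty open subset. -/
theorem exists_open_subset {T : Type*} [TopologicalSpace T] [QuasiSober T] [IrreducibleSpace T]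
    {s : Set T} (hs : IsLocallyConstructible s) (hd : Dense s) : ∃ U : Set T, IsOpen U ∧ U.Nonempty ∧ U ⊆ s := by
  have hη := genericPoint_spec T
  have key : ∀ {s : Set T}, IsLocallyConstructible s → genericPoint T ∈ s → ∃ U : Set T, IsOpen U ∧ U.Nonempty ∧ U ⊆ s := by
    intro s hs h
    obtain ⟨Z, hZ, hZ2, hZ3⟩ := exists_isLocallyClosed_of_isLocallyConstructible hs h
    obtain ⟨U, C, hU, hC, rfl⟩ := hZ
    have h1 : C = Set.univ := by
      rw [← Set.univ_subset_iff, ← hη.def]
      exact closure_minimal (Set.singleton_subset_iff.mpr hZ2.2) hC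
    subst h1
    exact ⟨U, hU, ⟨_, hZ2.1⟩, by simpa using hZ3⟩
  by_cases h : genericPoint T ∈ s
  · exact key hs h
  · have hs' : IsLocallyConstructible sᶜ := by
      intro x
      obtain ⟨U, hU, hUo, hUc⟩ := hs x
      exact ⟨U, hU, hUo, hUc.compl⟩
    obtain ⟨U, hU, hUne, hUs⟩ := key hs' h
    obtain ⟨x, hx, hx'⟩ := hd.inter_open_nonempty U hU hUne
    exact absurd hx' (hUs hx)

variable {k : Type u} [Field k] (K : Type u) [Field K] [Algebra k K] [IsAlgClosed K]

/-- lifting `K`-points along a morphism locally of finite type. -/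
theorem exists_lift' {X Y : Over (Spec (CommRingCat.of k))} (f : X ⟶ Y) [LocallyOfFiniteType f.left]
    (y : KK k K ⟶ Y) (x : X.left) (h : f.left x = y.left (pt0 k K)) : ∃ p : KK k K ⟶ X, p ≫ f = y := by
  obtain ⟨z, hz1, hz2⟩ := Scheme.Pullback.exists_preimage_pullback x (pt0 k K) h
  have : LocallyOfFiniteType (pullback.snd f.left y.left) := inferInstance
  have hJ : JacobsonSpace (pullback f.left y.left : Scheme.{u}) :=
    LocallyOfFiniteType.jacobsonSpace (Y := Spec (CommRingCat.of K)) (pullback.snd f.left y.left)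
  obtain ⟨w, -, hw⟩ := nonempty_inter_closedPoints (X := (pullback f.left y.left : Scheme.{u})) (Z := Set.univ)
    ⟨z, trivial⟩ isOpen_univ.isLocallyClosed
  let s := pointOfClosedPoint (K := K) (pullback.snd f.left y.left : _ ⟶ Spec (CommRingCat.of K)) w hw
  have hs : s ≫ pullback.snd f.left y.left = 𝟙 _ := pointOfClosedPoint_comp _ _ _
  refine ⟨Over.homMk (s ≫ pullback.fst f.left y.left) ?_, ?_⟩
  · rw [Category.assoc, ← Over.w f, ← Category.assoc (pullback.fst _ _), pullback.condition, Category.assoc,
      reassoc_of% hs, Over.w]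
  · ext1
    change (s ≫ pullback.fst f.left y.left) ≫ f.left = y.left
    rw [Category.assoc, pullback.condition, reassoc_of% hs]

variable {K} in
/-- the section of `X ⊗ KK` given by a `K`-point. -/
noncomputable abbrev sec {X : Over (Spec (CommRingCat.of k))} (y : KK k K ⟶ X) : KK k K ⟶ X ⊗ KK k K :=
  lift y (𝟙 (KK k K))

variable (X : Over (Spec (CommRingCat.of k))) [LocallyOfFiniteType X.hom]

instance lft_snd : LocallyOfFiniteType (snd X (KK k K)).left :=
  inferInstanceAs (LocallyOfFiniteType (pullback.snd X.hom (KK k K).hom))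

omit [IsAlgClosed K] in
theorem jacobson : JacobsonSpace (X ⊗ KK k K).left := by
  have := lft_snd K X
  exact LocallyOfFiniteType.jacobsonSpace (Y := Spec (CommRingCat.of K)) (snd X (KK k K)).left

omit [IsAlgClosed K] in
theorem noeth : IsLocallyNoetherian (X ⊗ KK k K).left := by
  have := lft_snd K X
  exact LocallyOfFiniteType.isLocallyNoetherian (Y := Spec (CommRingCat.of K)) (snd X (KK k K)).left

variable {X} in
/-- every closed point of `X ⊗ KK` comes from a `K`-point. -/
theorem exists_sec (w : (X ⊗ KK k K).left) (hw : IsClosed ({w} : Set (X ⊗ KK k K).left)) :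
    ∃ y : KK k K ⟶ X, (sec y).left (pt0 k K) = w := by
  have := lft_snd K X
  let s := pointOfClosedPoint (K := K) ((snd X (KK k K)).left : _ ⟶ Spec (CommRingCat.of K)) w hw
  have hs : s ≫ (snd X (KK k K)).left = 𝟙 _ := pointOfClosedPoint_comp _ _ _
  let s' : KK k K ⟶ X ⊗ KK k K := Over.homMk s (by
    rw [← Over.w (snd X (KK k K)), reassoc_of% hs])
  have hs' : s' ≫ snd X (KK k K) = 𝟙 _ := by
    ext1
    exact hs
  refine ⟨s' ≫ fst X (KK k K), ?_⟩
  have : sec (s' ≫ fst X (KK k K)) = s' := by
    apply CartesianMonoidalCategory.hom_ext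
    · simp
    · simp [hs']
  rw [this]
  exact pointOfClosedPoint_apply _ _ _ _

variable {X}
variable {G : Over (Spec (CommRingCat.of k))} [GrpObj G] (a : AlgGrp.Action G X)

variable {K} in
/-- the orbit morphism of a `K`-point -/
noncomputable def orb (z : KK k K ⟶ X) : G ⊗ KK k K ⟶ X ⊗ KK k K :=
  lift (sm a (fst G (KK k K)) (snd G (KK k K) ≫ z)) (snd G (KK k K))

omit [IsAlgClosed K] [LocallyOfFiniteType X.hom] in
variable {K} in
lemma sec_orb (z : KK k K ⟶ X) (g : KK k K ⟶ G) : sec g ≫ orb a z = sec (sm a g z) := by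
  simp only [orb, comp_lift, comp_sm, lift_fst, lift_snd_assoc, lift_snd, Category.id_comp]

variable [LocallyOfFiniteType G.hom]

omit [IsAlgClosed K] [LocallyOfFiniteType X.hom] in
variable {K} in
theorem lft_orb (z : KK k K ⟶ X) : LocallyOfFiniteType (orb a z).left := by
  have h1 : (orb a z).left ≫ (snd X (KK k K)).left = (snd G (KK k K)).left := by
    rw [← Over.comp_left]
    congr 1
    exact lift_snd _ _
  have := lft_snd K G
  have : LocallyOfFiniteType ((orb a z).left ≫ (snd X (KK k K)).left) := by rw [h1]; infer_instance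
  exact locallyOfFiniteType_of_comp (orb a z).left (snd X (KK k K)).left

omit [LocallyOfFiniteType X.hom] in
variable {K} in
/-- `K`-points in the orbit. -/
theorem sec_mem_range_orb_iff (z y : KK k K ⟶ X) :
    (sec y).left (pt0 k K) ∈ Set.range (orb a z).left ↔ ∃ g : KK k K ⟶ G, sm a g z = y := by
  constructor
  · rintro ⟨w, hw⟩
    have := lft_orb a z
    obtain ⟨p, hp⟩ := exists_lift' K (orb a z) (sec y) w hw
    have h1 : p ≫ snd G (KK k K) = 𝟙 _ := by
      have := congrArg (fun q => q ≫ snd X (KK k K)) hp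
      simpa [orb] using this
    refine ⟨p ≫ fst G (KK k K), ?_⟩
    have h2 : p = sec (p ≫ fst G (KK k K)) := by
      apply CartesianMonoidalCategory.hom_ext
      · simp
      · simp [h1]
    rw [h2, sec_orb] at hp
    have := congrArg (fun q => q ≫ fst X (KK k K)) hp
    simpa using this
  · rintro ⟨g, rfl⟩
    rw [← sec_orb, Over.comp_left]
    exact ⟨_, rfl⟩

omit [IsAlgClosed K] in
variable {K} in
theorem isLocallyConstructible_orb [QuasiCompact G.hom] (z : KK k K ⟶ X) :
    IsLocallyConstructible (Set.range (orb a z).left) := by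
  have := lft_orb a z
  have := noeth K X
  have : QuasiCompact (orb a z).left := by
    have h1 : (orb a z).left ≫ (snd X (KK k K)).left = (snd G (KK k K)).left := by
      rw [← Over.comp_left]
      congr 1
      exact lift_snd _ _
    have : QuasiCompact (snd G (KK k K)).left := inferInstanceAs (QuasiCompact (pullback.snd G.hom (KK k K).hom))
    have : QuasiCompact ((orb a z).left ≫ (snd X (KK k K)).left) := by rw [h1]; infer_instance
    have : IsLocallyNoetherian (X ⊗ KK k K).left := noeth K X
    exact QuasiCompact.of_comp (orb a z).left (snd X (KK k K)).left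
  rw [← Set.image_univ]
  exact (orb a z).left.isLocallyConstructible_image .univ

variable {K} in
/-- Two dense orbits of `K`-points coincide. -/
theorem exists_sm_eq_of_dense [QuasiCompact G.hom] [IrreducibleSpace (X ⊗ KK k K).left] (z z' : KK k K ⟶ X)
    (h : IsDominant (orb a z).left) (h' : IsDominant (orb a z').left) : ∃ g : KK k K ⟶ G, sm a g z = z' := by
  obtain ⟨U, hU, hUne, hUs⟩ := exists_open_subset (isLocallyConstructible_orb a z) h.1
  obtain ⟨U', hU', hUne', hUs'⟩ := exists_open_subset (isLocallyConstructible_orb a z') h'.1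
  have := jacobson K X
  obtain ⟨w, hw, hwc⟩ := nonempty_inter_closedPoints
    (nonempty_preirreducible_inter hU hU' hUne hUne') (hU.inter hU').isLocallyClosed
  obtain ⟨y, rfl⟩ := exists_sec K w hwc
  obtain ⟨g, hg⟩ := (sec_mem_range_orb_iff a z y).1 (hUs hw.1)
  obtain ⟨g', hg'⟩ := (sec_mem_range_orb_iff a z' y).1 (hUs' hw.2)
  refine ⟨g'⁻¹ * g, ?_⟩
  rw [mul_sm, hg, ← hg', ← mul_sm, inv_mul_cancel, one_sm]

end K403.Orbits
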