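import Groth.Agent.AlgGrp.K403.Orbits
import Groth.Agent.AlgGrp.K403.QuotAct
import Mathlib.AlgebraicGeometry.Geometrically.Integral
import Mathlib.AlgebraicGeometry.Morphisms.FlatDescent

/-! Orbits of geometric points, almost homogeneity. -/

set_option autoImplicit false
universe u
open CategoryTheory MonoidalCategory CartesianMonoidalCategory MonObj GrpObj AlgebraicGeometry Limits Topology
open Groth.Agent.Books.BorelOrb K403.Act K403.GeomPts K403.Dense

namespace K403.Orbits

section tau

variable {k : Type u} [Field k] {K : Type u} [Field K] [Algebra k K]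
variable {X : Over (Spec (CommRingCat.of k))}
variable {G : Over (Spec (CommRingCat.of k))} [GrpObj G] (a : AlgGrp.Action G X)

/-- translation by a `K`-point on `X ⊗ KK`. -/
noncomputable def tau (g : KK k K ⟶ G) : X ⊗ KK k K ⟶ X ⊗ KK k K :=
  lift (sm a (snd X (KK k K) ≫ g) (fst X (KK k K))) (snd X (KK k K))

lemma tau_snd (g : KK k K ⟶ G) : tau a g ≫ snd X (KK k K) = snd X (KK k K) := lift_snd _ _

lemma tau_fst (g : KK k K ⟶ G) : tau a g ≫ fst X (KK k K) = sm a (snd X (KK k K) ≫ g) (fst X (KK k K)) :=
  lift_fst _ _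

lemma tau_mul (g h : KK k K ⟶ G) : tau a (g * h) = tau a h ≫ tau a g := by
  apply CartesianMonoidalCategory.hom_ext
  · rw [tau_fst, Category.assoc, tau_fst, comp_sm, ← Category.assoc, tau_snd, tau_fst, MonObj.comp_mul, mul_sm]
  · rw [tau_snd, Category.assoc, tau_snd, tau_snd]

lemma tau_one : tau a (1 : KK k K ⟶ G) = 𝟙 _ := by
  apply CartesianMonoidalCategory.hom_ext
  · rw [tau_fst, MonObj.comp_one, one_sm, Category.id_comp]
  · rw [tau_snd, Category.id_comp]

/-- translation as an isomorphism -/
@[simps]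
noncomputable def tauIso (g : KK k K ⟶ G) : X ⊗ KK k K ≅ X ⊗ KK k K where
  hom := tau a g
  inv := tau a g⁻¹
  hom_inv_id := by rw [← tau_mul, inv_mul_cancel, tau_one]
  inv_hom_id := by rw [← tau_mul, mul_inv_cancel, tau_one]

instance isIso_tau (g : KK k K ⟶ G) : IsIso (tau a g) := (tauIso a g).isIso_hom

instance isIso_tau_left (g : KK k K ⟶ G) : IsIso (tau a g).left := by
  change IsIso ((Over.forget _).map (tau a g))
  infer_instance

lemma sec_tau (g : KK k K ⟶ G) (y : KK k K ⟶ X) : sec y ≫ tau a g = sec (sm a g y) := by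
  apply CartesianMonoidalCategory.hom_ext
  · rw [Category.assoc, tau_fst, comp_sm, lift_snd_assoc, Category.id_comp, lift_fst, lift_fst]
  · rw [Category.assoc, tau_snd, lift_snd, lift_snd]

lemma tau_orb (g : KK k K ⟶ G) (z : KK k K ⟶ X) :
    tau (leftAct G) g ≫ orb a z = orb a z ≫ tau a g := by
  apply CartesianMonoidalCategory.hom_ext
  · simp only [Category.assoc, tau_fst, orb, lift_fst, comp_sm, lift_snd_assoc]
    rw [← Category.assoc (tau (leftAct G) g), tau_snd, sm_leftAct, mul_sm]
  · simp only [Category.assoc, tau_snd, orb, lift_snd]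

lemma sec_tau_leftAct (g h : KK k K ⟶ G) : sec h ≫ tau (leftAct G) g = sec (g * h) := by
  rw [sec_tau, sm_leftAct]

/-- the right translation by a `K`-point. -/
noncomputable def rho (g : KK k K ⟶ G) : G ⊗ KK k K ⟶ G ⊗ KK k K :=
  lift (fst G (KK k K) * (snd G (KK k K) ≫ g)) (snd G (KK k K))

lemma rho_comp (g h : KK k K ⟶ G) : rho g ≫ rho h = rho (g * h) := by
  apply CartesianMonoidalCategory.hom_ext
  · simp only [rho, Category.assoc, lift_fst, MonObj.comp_mul, lift_snd_assoc]
    exact _root_.mul_assoc _ _ _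
  · simp only [rho, Category.assoc, lift_snd]

lemma rho_one : rho (1 : KK k K ⟶ G) = 𝟙 _ := by
  apply CartesianMonoidalCategory.hom_ext
  · simp only [rho, lift_fst, MonObj.comp_one, Category.id_comp]
    exact _root_.mul_one _
  · simp only [rho, lift_snd, Category.id_comp]

lemma rho_orb (g : KK k K ⟶ G) (z : KK k K ⟶ X) : rho g ≫ orb a z = orb a (sm a g z) := by
  apply CartesianMonoidalCategory.hom_ext
  · simp only [orb, rho, Category.assoc, lift_fst, lift_snd_assoc, comp_sm, mul_sm]
  · simp only [orb, rho, Category.assoc, lift_snd]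

/-- orbits of translates -/
lemma isDominant_orb_sm (g : KK k K ⟶ G) (z : KK k K ⟶ X) (h : IsDominant (orb a z).left) :
    IsDominant (orb a (sm a g z)).left := by
  have h1 : rho g⁻¹ ≫ orb a (sm a g z) = orb a z := by
    rw [rho_orb, ← mul_sm, inv_mul_cancel, one_sm]
  have h2 : IsDominant ((rho g⁻¹).left ≫ (orb a (sm a g z)).left) := by
    rw [← Over.comp_left, h1]
    exact h
  exact IsDominant.of_comp (rho g⁻¹).left _

end tau

section subgroup

variable {k : Type u} [Field k] {K : Type u} [Field K] [Algebra k K] [IsAlgClosed K]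
variable {X : Over (Spec (CommRingCat.of k))} [LocallyOfFiniteType X.hom]
variable {G G0 : Over (Spec (CommRingCat.of k))} [GrpObj G] [GrpObj G0] [LocallyOfFiniteType G.hom] [QuasiCompact G.hom]
variable (i : G0 ⟶ G) [IsMonHom i] [IsOpenImmersion i.left]

omit [GrpObj G] [GrpObj G0] [LocallyOfFiniteType G.hom] [QuasiCompact G.hom] [IsMonHom i] [IsAlgClosed K] in
lemma isOpenImmersion_whisker : IsOpenImmersion (i ▷ KK k K).left :=
  MorphismProperty.of_isPullback (isPullback_whiskerRight_left i (KK k K)) inferInstance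

/-- finitely many translates of an open subgroup cover. -/
theorem exists_finite_cover : ∃ F : Finset (KK k K ⟶ G),
    (⋃ g ∈ F, (tau (leftAct G) g).left '' (Set.range (i ▷ KK k K).left)) = Set.univ := by
  have hop := isOpenImmersion_whisker (K := K) i
  have hft : LocallyOfFiniteType (G ⊗ KK k K).hom → True := fun _ => trivial
  have hJ := jacobson K G
  have hqc : CompactSpace (G ⊗ KK k K).left := by
    have : QuasiCompact (snd G (KK k K)).left := inferInstanceAs (QuasiCompact (pullback.snd G.hom (KK k K).hom))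
    have : CompactSpace (KK k K).left := inferInstanceAs (CompactSpace (PrimeSpectrum K))
    exact QuasiCompact.compactSpace_of_compactSpace (snd G (KK k K)).left
  have hopen : ∀ g : KK k K ⟶ G, IsOpen ((tau (leftAct G) g).left '' (Set.range (i ▷ KK k K).left)) := fun g =>
    (Scheme.homeoOfIso (asIso (tau (leftAct G) g).left)).isOpenMap _ (i ▷ KK k K).left.isOpenEmbedding.isOpen_range
  have hcov : (⋃ g : KK k K ⟶ G, (tau (leftAct G) g).left '' (Set.range (i ▷ KK k K).left)) = Set.univ := by
    by_contra hne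
    have h1 : IsClosed (⋃ g : KK k K ⟶ G, (tau (leftAct G) g).left '' (Set.range (i ▷ KK k K).left))ᶜ :=
      (isOpen_iUnion hopen).isClosed_compl
    obtain ⟨w, hw, hwc⟩ := nonempty_inter_closedPoints
      (Set.nonempty_compl.mpr hne) h1.isLocallyClosed
    obtain ⟨g, rfl⟩ := exists_sec K w hwc
    apply hw
    refine Set.mem_iUnion.mpr ⟨g, ?_⟩
    refine ⟨(sec (1 : KK k K ⟶ G)).left (pt0 k K), ⟨(sec (1 : KK k K ⟶ G0)).left (pt0 k K), ?_⟩, ?_⟩
    · have h5 : sec (1 : KK k K ⟶ G0) ≫ (i ▷ KK k K) = sec (1 : KK k K ⟶ G) := by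
        apply CartesianMonoidalCategory.hom_ext
        · simp [MonObj.one_comp]
        · simp
      rw [← h5]
      rfl
    · rw [← Scheme.Hom.comp_apply, ← Over.comp_left, sec_tau_leftAct, _root_.mul_one]
  obtain ⟨t, ht⟩ := isCompact_univ.elim_finite_subcover
    (fun g : KK k K ⟶ G => (tau (leftAct G) g).left '' (Set.range (i ▷ KK k K).left)) hopen hcov.ge
  exact ⟨t, Set.univ_subset_iff.1 ht⟩

omit [LocallyOfFiniteType X.hom] in
/-- An orbit of an open subgroup is dense if the orbit of the group is. -/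
theorem isDominant_orb_openSubgroup [IrreducibleSpace (X ⊗ KK k K).left] (a : AlgGrp.Action G X) (a0 : AlgGrp.Action G0 X)
    (ha0 : a0.act = (i ▷ X) ≫ a.act) (z : KK k K ⟶ X) (h : IsDominant (orb a z).left) :
    IsDominant (orb a0 z).left := by
  obtain ⟨F, hF⟩ := exists_finite_cover (K := K) i
  have h0 : orb a0 z = (i ▷ KK k K) ≫ orb a z := by
    apply CartesianMonoidalCategory.hom_ext
    · simp only [orb, lift_fst, Category.assoc, sm, ha0, lift_whiskerRight_assoc, comp_lift_assoc, whiskerRight_fst,
        whiskerRight_snd_assoc]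
    · simp [orb]
  have h1 : Set.range (orb a z).left = ⋃ g ∈ F, (tau a g).left '' (Set.range (orb a0 z).left) := by
    rw [← Set.image_univ, ← hF, Set.image_iUnion₂]
    refine Set.iUnion₂_congr fun g _ => ?_
    rw [← Set.image_comp, ← Set.range_comp, ← Set.range_comp, h0]
    congr 1
    ext w
    simp only [Function.comp_apply]
    rw [← Scheme.Hom.comp_apply, ← Scheme.Hom.comp_apply, ← Scheme.Hom.comp_apply, ← Over.comp_left, ← Over.comp_left,
      ← Over.comp_left, tau_orb, Category.assoc]
  have h2 : (⋃ g ∈ F, closure ((tau a g).left '' (Set.range (orb a0 z).left))) = Set.univ := by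
    rw [← F.closure_biUnion, ← h1]
    exact h.1.closure_eq
  have h3 : ∃ g ∈ F, Set.univ ⊆ closure ((tau a g).left '' (Set.range (orb a0 z).left)) := by
    have := IrreducibleSpace.isIrreducible_univ (X ⊗ KK k K).left
    rw [isIrreducible_iff_sUnion_isClosed] at this
    obtain ⟨Z, hZ, hZ2⟩ := this (F.image fun g => closure ((tau a g).left '' (Set.range (orb a0 z).left)))
      (by simp) (by rw [← h2]; simp)
    simp only [Finset.mem_image] at hZ
    obtain ⟨g, hg, rfl⟩ := hZ
    exact ⟨g, hg, hZ2⟩
  obtain ⟨g, -, hg⟩ := h3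
  have hcl : closure ((tau a g).left '' (Set.range (orb a0 z).left)) = (tau a g).left '' closure (Set.range (orb a0 z).left) :=
    ((Scheme.homeoOfIso (asIso (tau a g).left)).image_closure _).symm
  rw [hcl] at hg
  refine ⟨?_⟩
  rw [DenseRange, dense_iff_closure_eq, ← Set.univ_subset_iff]
  intro w _
  obtain ⟨w', hw', hw''⟩ := hg (Set.mem_univ ((tau a g).left w))
  have : w' = w := (Scheme.homeoOfIso (asIso (tau a g).left)).injective hw''
  rwa [← this]

end subgroup

end K403.Orbits
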