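import Groth.Agent.Lefpen.H723.P1Pt
import Groth.Agent.Lefpen.H170.LinAut
import Groth.Agent.Sga4h.H276.P1
import Mathlib.AlgebraicGeometry.AlgClosed.Basic

/-! The automorphism group of the projective line over an algebraically closed field is transitive on closed points. -/

set_option autoImplicit false
universe u
open CategoryTheory AlgebraicGeometry Limits TopologicalSpace Opposite

namespace K403.P1Aut

open Groth.Agent.Lefpen.H723.P1Pt Groth.Agent.Lefpen.H170.LinAut Groth.Agent.Sga5 LefPen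
  Groth.Agent.Lefpen.H705.HypIdeal

variable {K : Type u} [Field K]

/-- closed points of the projective line are the points `pt i c`. -/
theorem exists_eq_pt [IsAlgClosed K] (Q : CohB1.ProjSpace 1 K) (hQ : IsClosed ({Q} : Set (CohB1.ProjSpace 1 K))) :
    ∃ (i : Fin (1 + 1)) (c : K) (a : Spec (CommRingCat.of K)), pt i c a = Q := by
  obtain ⟨i, hi⟩ := ProjSmooth.exists_mem_chart 1 K Q
  have : LocallyOfFiniteType (CohB1.ProjSpace.toSpec 1 K) := inferInstance
  let s := pointOfClosedPoint (K := K) (CohB1.ProjSpace.toSpec 1 K) Q hQ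
  have hs : s ≫ CohB1.ProjSpace.toSpec 1 K = 𝟙 _ := pointOfClosedPoint_comp _ _ _
  have hr : Set.range s ⊆ Set.range (ProjSmooth.chart 1 K i) := by
    rintro _ ⟨a, rfl⟩
    rw [pointOfClosedPoint_apply]
    exact hi
  let t := IsOpenImmersion.lift (ProjSmooth.chart 1 K i) s hr
  have ht : t ≫ ProjSmooth.chart 1 K i = s := IsOpenImmersion.lift_fac _ _ _
  obtain ⟨ψ, hψ⟩ := Spec.map_surjective t
  have h1 : ψ.hom.comp (MvPolynomial.C : K →+* MvPolynomial (Fin 1) K) = RingHom.id K := by
    have h2 : CommRingCat.ofHom (MvPolynomial.C : K →+* MvPolynomial (Fin 1) K) ≫ ψ = 𝟙 _ := by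
      apply Spec.map_injective
      rw [Spec.map_comp, hψ, Spec.map_id, ← hs, ← ht, Category.assoc, ProjSmooth.chart_toSpec]
    exact congrArg CommRingCat.Hom.hom h2
  have h3 : ψ.hom = MvPolynomial.eval (fun _ : Fin 1 => ψ.hom (MvPolynomial.X 0)) := by
    apply MvPolynomial.ringHom_ext
    · intro a
      rw [MvPolynomial.eval_C]
      exact congr($h1 a)
    · intro j
      rw [MvPolynomial.eval_X, Subsingleton.elim j 0]
  refine ⟨i, ψ.hom (MvPolynomial.X 0), IsLocalRing.closedPoint K, ?_⟩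
  have h4 : pt i (ψ.hom (MvPolynomial.X 0)) = s := by
    rw [pt, ← ht, ← hψ, ← h3]
    rfl
  rw [h4]
  exact pointOfClosedPoint_apply _ _ _ _

/-- the linear map -/
noncomputable def LL (j : Fin (1 + 1)) (c : K) : (Fin (1 + 1) → K) ≃ₗ[K] (Fin (1 + 1) → K) where
  toFun v := ![v (j.succAbove 0) - c * v j, v j]
  invFun w := fun i => if i = j then w 1 else w 0 + c * w 1
  left_inv v := by
    funext i
    by_cases h : i = j
    · subst h; simp
    · have : j.succAbove 0 = i := by
        revert h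
        fin_cases i <;> fin_cases j <;> simp
      simp [h, this]
  right_inv w := by
    have h : j.succAbove 0 ≠ j := Fin.succAbove_ne j 0
    funext i
    fin_cases i <;> simp
  map_add' v w := by
    funext i
    fin_cases i
    · simp; ring
    · simp
  map_smul' c v := by
    funext i
    fin_cases i
    · simp; ring
    · simp

theorem subForm_LL (j : Fin (1 + 1)) (c : K) :
    subForm (LL j c : (Fin (1 + 1) → K) →ₗ[K] (Fin (1 + 1) → K)) (lin 1 0) = lin j c := by
  apply Subtype.ext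
  change sub _ (lin 1 (0 : K)).1 = _
  have h1 : (lin 1 (0 : K)).1 = MvPolynomial.X 0 := by
    rw [lin, zero_smul, sub_zero]
    rfl
  rw [h1, sub_X]
  have h : (lin j c).1 = MvPolynomial.X (j.succAbove 0) - c • MvPolynomial.X j := rfl
  rw [h, Fin.sum_univ_two, MvPolynomial.smul_eq_C_mul]
  fin_cases j
  · simp [LL]; ring
  · simp [LL]; ring

theorem range_pt (j : Fin (1 + 1)) (c : K) : Set.range (pt j c) = ((hypIdeal (lin j c)).support : Set _) := by
  rw [← ker_pt, Scheme.Hom.support_ker]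
  exact ((pt j c).isClosedEmbedding.isClosed_range.closure_eq).symm

/-- moving a closed point to a fixed one. -/
theorem exists_aut_aux [IsAlgClosed K] (Q : CohB1.ProjSpace 1 K) (hQ : IsClosed ({Q} : Set (CohB1.ProjSpace 1 K))) :
    ∃ e : CohB1.ProjSpace 1 K ≅ CohB1.ProjSpace 1 K, e.hom ≫ CohB1.ProjSpace.toSpec 1 K = CohB1.ProjSpace.toSpec 1 K ∧
      e.hom Q = pt 1 (0 : K) (IsLocalRing.closedPoint K) := by
  obtain ⟨j, c, a, rfl⟩ := exists_eq_pt Q hQ
  refine ⟨aut (LL j c), autHom_toSpec _, ?_⟩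
  have h1 : pt j c a ∈ (hypIdeal (lin j c)).support := by
    have := (range_pt j c).le
    exact this ⟨a, rfl⟩
  rw [← subForm_LL, ← comap_hypIdeal, Scheme.IdealSheafData.support_comap] at h1
  have h2 : autHom (LL j c) (pt j c a) ∈ Set.range (pt 1 (0 : K)) := by
    rw [range_pt]
    exact h1
  obtain ⟨b, hb⟩ := h2
  change autHom (LL j c) (pt j c a) = _
  rw [← hb]
  congr 1
  have : Subsingleton (Spec (CommRingCat.of K)) := inferInstanceAs (Subsingleton (PrimeSpectrum K))
  exact Subsingleton.elim _ _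

open Groth.Agent.Sga4h.H276.P1 in
/-- **Transitivity** of automorphisms on closed points. -/
theorem exists_aut [IsAlgClosed K] (Q : CohB1.ProjSpace 1 K) (hQ : IsClosed ({Q} : Set (CohB1.ProjSpace 1 K))) :
    ∃ e : CohB1.ProjSpace 1 K ≅ CohB1.ProjSpace 1 K, e.hom ≫ CohB1.ProjSpace.toSpec 1 K = CohB1.ProjSpace.toSpec 1 K ∧
      e.hom Q = x K 1 := by
  obtain ⟨e, he, he'⟩ := exists_aut_aux Q hQ
  obtain ⟨f, hf, hf'⟩ := exists_aut_aux (x K 1) (isClosed_x K 1)
  refine ⟨e ≪≫ f.symm, ?_, ?_⟩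
  · rw [Iso.trans_hom, Iso.symm_hom, Category.assoc, Iso.inv_comp_eq f |>.2 hf.symm, he]
  · rw [Iso.trans_hom, Iso.symm_hom, Scheme.Hom.comp_apply, he', ← hf', ← Scheme.Hom.comp_apply, f.hom_inv_id]
    rfl

open Groth.Agent.Sga4h.H276.P1 in
/-- the complement of a closed point is an affine line. -/
theorem exists_line [IsAlgClosed K] (Q : CohB1.ProjSpace 1 K) (hQ : IsClosed ({Q} : Set (CohB1.ProjSpace 1 K))) :
    ∃ j : Spec (CommRingCat.of (Polynomial K)) ⟶ CohB1.ProjSpace 1 K, IsOpenImmersion j ∧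
      j ≫ CohB1.ProjSpace.toSpec 1 K = Spec.map (CommRingCat.ofHom (Polynomial.C : K →+* Polynomial K)) ∧
      Set.range j = {Q}ᶜ := by
  obtain ⟨e, he, he'⟩ := exists_aut Q hQ
  refine ⟨ch K 0 ≫ e.inv, inferInstance, ?_, ?_⟩
  · rw [Category.assoc, Iso.inv_comp_eq e |>.2 he.symm]
    exact ch_str K 0
  · have h1 := compl_range_ch K 0
    ext y
    constructor
    · rintro ⟨w, rfl⟩ h
      have h2 : e.hom Q = ch K 0 w := by
        rw [Set.mem_singleton_iff] at h
        rw [← h, ← Scheme.Hom.comp_apply, Category.assoc, e.inv_hom_id, Category.comp_id]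
      have h3 : x K (0 + 1) ∈ (Set.range (ch K 0))ᶜ := by rw [h1]; rfl
      apply h3
      refine ⟨w, ?_⟩
      rw [← h2, he']
      rfl
    · intro hy
      have h2 : e.hom y ∈ Set.range (ch K 0) := by
        by_contra h
        rw [← Set.mem_compl_iff, h1, Set.mem_singleton_iff] at h
        apply hy
        rw [Set.mem_singleton_iff]
        have h3 : e.hom y = e.hom Q := by rw [h, he']; rfl
        exact e.hom.isOpenEmbedding.injective h3
      obtain ⟨w, hw⟩ := h2
      refine ⟨w, ?_⟩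
      rw [Scheme.Hom.comp_apply, hw, ← Scheme.Hom.comp_apply, e.hom_inv_id]
      rfl

end K403.P1Aut
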