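import Groth.Agent.AlgGrp.K403.P1Fix
import Groth.Agent.AlgGrp.K403.P1Aut
import Mathlib.AlgebraicGeometry.AlgClosed.Basic

/-! An automorphism of the projective line over an algebraically closed field with three fixed points is the identity. -/

set_option autoImplicit false
universe u
open CategoryTheory AlgebraicGeometry

namespace K403.P1Fix3

open Groth.Agent.Sga4h.H276.P1 K403.P1Fix K403.P1Aut

variable {K : Type u} [Field K]

instance proper_toSpec : IsProper (CohB1.ProjSpace.toSpec 1 K) := proper_str K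

/-- points off infinity are given by elements of the field. -/
theorem exists_cp (z : Spec (CommRingCat.of K) ⟶ CohB1.ProjSpace 1 K) (h : z ≫ CohB1.ProjSpace.toSpec 1 K = 𝟙 _)
    (hz : z (IsLocalRing.closedPoint K) ≠ x K 1) : ∃ c : K, z = cp 0 c := by
  have hsub : Subsingleton (Spec (CommRingCat.of K)) := inferInstanceAs (Subsingleton (PrimeSpectrum K))
  have hr : Set.range z ⊆ Set.range (ch K 0) := by
    rintro _ ⟨a, rfl⟩
    by_contra hc
    have h1 : z a ∈ (Set.range (ch K 0))ᶜ := hc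
    rw [compl_range_ch] at h1
    apply hz
    rw [Subsingleton.elim (IsLocalRing.closedPoint K) a]
    exact h1
  let w := IsOpenImmersion.lift (ch K 0) z hr
  have hw : w ≫ ch K 0 = z := IsOpenImmersion.lift_fac _ _ _
  obtain ⟨f, hf⟩ := Spec.map_surjective w
  refine ⟨f.hom Polynomial.X, ?_⟩
  rw [← hw, cp]
  congr 1
  rw [← hf]
  congr 1
  apply CommRingCat.hom_ext
  apply Polynomial.ringHom_ext
  · intro a
    have h1 : Spec.map (CommRingCat.ofHom (Polynomial.C : K →+* Polynomial K) ≫ f) = 𝟙 _ := by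
      rw [Spec.map_comp, hf, ← h, ← hw, Category.assoc, ch_str]
    rw [← Spec.map_id] at h1
    have h2 := congr(($(Spec.map_injective h1)).hom a)
    simpa using h2
  · simp

theorem eq_id_of_fix_three [IsAlgClosed K] (φ : CohB1.ProjSpace 1 K ≅ CohB1.ProjSpace 1 K)
    (hφ : φ.hom ≫ CohB1.ProjSpace.toSpec 1 K = CohB1.ProjSpace.toSpec 1 K)
    (z0 z1 z2 : Spec (CommRingCat.of K) ⟶ CohB1.ProjSpace 1 K)
    (h0 : z0 ≫ CohB1.ProjSpace.toSpec 1 K = 𝟙 _) (h1 : z1 ≫ CohB1.ProjSpace.toSpec 1 K = 𝟙 _)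
    (h2 : z2 ≫ CohB1.ProjSpace.toSpec 1 K = 𝟙 _) (h01 : z0 ≠ z1) (h02 : z0 ≠ z2) (h12 : z1 ≠ z2)
    (f0 : z0 ≫ φ.hom = z0) (f1 : z1 ≫ φ.hom = z1) (f2 : z2 ≫ φ.hom = z2) : φ.hom = 𝟙 _ := by
  let p0 : (CohB1.ProjSpace 1 K : Scheme.{u}) := z0 (IsLocalRing.closedPoint K)
  have hp0 : IsClosed ({p0} : Set (CohB1.ProjSpace 1 K)) :=
    (pointEquivClosedPoint (CohB1.ProjSpace.toSpec 1 K) ⟨z0, h0⟩).2
  obtain ⟨e, he, hep⟩ := exists_aut p0 hp0
  have hei : e.inv ≫ CohB1.ProjSpace.toSpec 1 K = CohB1.ProjSpace.toSpec 1 K := by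
    rw [Iso.inv_comp_eq, he]
  let ψ : CohB1.ProjSpace 1 K ≅ CohB1.ProjSpace 1 K := e.symm ≪≫ φ ≪≫ e
  have hψ : ψ.hom ≫ CohB1.ProjSpace.toSpec 1 K = CohB1.ProjSpace.toSpec 1 K := by
    simp only [ψ, Iso.trans_hom, Iso.symm_hom, Category.assoc, he, hφ, hei]
  have hpt : ∀ (z : Spec (CommRingCat.of K) ⟶ CohB1.ProjSpace 1 K), z ≫ φ.hom = z →
      (z ≫ e.hom) ≫ ψ.hom = z ≫ e.hom := by
    intro z hz
    simp only [ψ, Iso.trans_hom, Iso.symm_hom, Category.assoc, e.hom_inv_id_assoc]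
    rw [← Category.assoc, hz]
  have hz0 : (z0 ≫ e.hom) (IsLocalRing.closedPoint K) = x K 1 := by
    rw [← hep, Scheme.Hom.comp_apply]
  have hx : ψ.hom (x K 1) = x K 1 := by
    rw [← hz0, ← Scheme.Hom.comp_apply, hpt z0 f0]
  obtain ⟨α, β, hα, hαβ⟩ := exists_affine ψ hψ hx
  have key : ∀ (z : Spec (CommRingCat.of K) ⟶ CohB1.ProjSpace 1 K), z ≫ CohB1.ProjSpace.toSpec 1 K = 𝟙 _ →
      z0 ≠ z → z ≫ φ.hom = z → ∃ c : K, z ≫ e.hom = cp 0 c ∧ α * c + β = c := by
    intro z hz hz0' hzφ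
    obtain ⟨c, hc⟩ := exists_cp (z ≫ e.hom) (by rw [Category.assoc, he, hz]) (by
      intro h
      apply hz0'
      have h3 : (z0 ≫ e.hom) = (z ≫ e.hom) :=
        ext_of_apply_closedPoint_eq (CohB1.ProjSpace.toSpec 1 K) (by rw [Category.assoc, he, h0])
          (by rw [Category.assoc, he, hz]) (hz0.trans h.symm)
      exact (cancel_mono e.hom).1 h3)
    refine ⟨c, hc, ?_⟩
    have h3 := hpt z hzφ
    rw [hc] at h3
    have h4 : cp (K := K) 0 c ≫ ψ.hom = cp 0 (α * c + β) := by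
      rw [cp, Category.assoc, hαβ]
      have := map_cp (K := K) 0 (Polynomial.aeval (R := K) c)
        (Polynomial.C α * Polynomial.X + Polynomial.C β)
      rw [this]
      congr 1
      simp
    rw [h4] at h3
    exact cp_injective 0 h3
  obtain ⟨c1, hc1, hc1'⟩ := key z1 h1 h01 f1
  obtain ⟨c2, hc2, hc2'⟩ := key z2 h2 h02 f2
  have hne : c1 ≠ c2 := by
    rintro rfl
    apply h12
    exact (cancel_mono e.hom).1 (hc1.trans hc2.symm)
  have hα1 : α = 1 := by
    have h3 : (α - 1) * (c1 - c2) = 0 := by linear_combination hc1' - hc2'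
    rcases mul_eq_zero.1 h3 with h | h
    · exact sub_eq_zero.1 h
    · exact absurd (sub_eq_zero.1 h) hne
  have hβ : β = 0 := by
    rw [hα1] at hc1'
    linear_combination hc1'
  have hψid : ψ.hom = 𝟙 _ := by
    have hI := isIntegral_P1 K
    have hdom : IsDominant (ch K 0) := by
      refine ⟨(ch K 0).isOpenEmbedding.isOpen_range.dense ⟨_, ⟨Classical.arbitrary _, rfl⟩⟩⟩
    refine ext_of_isDominant_of_isSeparated (CohB1.ProjSpace.toSpec 1 K) ?_ (ch K 0) ?_
    · rw [hψ, Category.id_comp]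
    · rw [hαβ, hα1, hβ, Category.comp_id, ch_eq_cp]
      congr 1
      simp
  have h3 : φ.hom = e.hom ≫ ψ.hom ≫ e.inv := by
    simp [ψ]
  rw [h3, hψid, Category.id_comp, e.hom_inv_id]

end K403.P1Fix3
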