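import Groth.Agent.AlgGrp.K403.P1Fix
import Mathlib.FieldTheory.PurelyInseparable.Tower
import Mathlib.FieldTheory.PrimitiveElement
import Mathlib.AlgebraicGeometry.Morphisms.Finite
import Mathlib.RingTheory.RingHom.PurelyInseparable

/-! Thickened points over a purely inseparable point of the projective line. -/

set_option autoImplicit false
universe u
open CategoryTheory AlgebraicGeometry Limits TopologicalSpace Opposite

namespace K403.P1Thick

open Groth.Agent.Sga4h.H276.P1

/-- algebra: a map killing the cube of a maximal ideal kills a purely inseparable polynomial of degree at least three. -/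
theorem ker_le_ker {k K κ B : Type u} [Field k] [Field K] [Algebra k K] [Field κ] [Algebra k κ] [IsPurelyInseparable k κ]
    (hdeg : 3 ≤ Module.finrank k κ) [CommRing B] [Algebra K B] (𝔫 : Ideal B) [𝔫.IsPrime] (hn : ∀ b ∈ 𝔫, b ^ 3 = 0)
    (hB : ∀ b : B, ∃ r : K, b - algebraMap K B r ∈ 𝔫) (θ : Polynomial k →+* κ) (hθ : θ.comp Polynomial.C = algebraMap k κ)
    (hθs : Function.Surjective θ) (ψ : Polynomial k →+* B) (hψ : ψ.comp Polynomial.C = (algebraMap K B).comp (algebraMap k K))
    (hI : RingHom.ker θ ≤ Ideal.comap ψ 𝔫) : RingHom.ker θ ≤ RingHom.ker ψ := by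
  have hfin : Module.Finite k κ := Module.finite_of_finrank_pos (by omega)
  let ξ : κ := θ Polynomial.X
  have hθ2 : ∀ p, θ p = Polynomial.aeval ξ p := by
    have : θ = (Polynomial.aeval (R := k) ξ).toRingHom := by
      apply Polynomial.ringHom_ext
      · intro a
        have := congr($hθ a)
        simpa using this
      · simp [ξ]
    intro p
    exact congr($this p)
  let f := minpoly k ξ
  have hf : f.natDegree = Module.finrank k κ := by
    rw [← Field.primitive_element_iff_minpoly_natDegree_eq, eq_top_iff]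
    intro x _
    obtain ⟨p, rfl⟩ := hθs x
    rw [hθ2]
    exact IntermediateField.algebra_adjoin_le_adjoin _ _ (Polynomial.aeval_mem_adjoin_singleton _ _)
  obtain ⟨p, hp⟩ := ExpChar.exists k
  have hpK : ExpChar K p := expChar_of_injective_algebraMap (algebraMap k K).injective p
  obtain ⟨n, a, ha⟩ := IsPurelyInseparable.pow_mem k p ξ
  let f1 : Polynomial k := Polynomial.X ^ p ^ n - Polynomial.C a
  have hf1 : θ f1 = 0 := by
    rw [hθ2]
    simp [f1, ha]
  have hdvd : f ∣ f1 := minpoly.dvd k ξ (by rw [← hθ2, hf1])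
  obtain ⟨r, hr⟩ := hB (ψ Polynomial.X)
  have hψC : ∀ c, ψ (Polynomial.C c) = algebraMap K B (algebraMap k K c) := fun c => congr($hψ c)
  have hr2 : r ^ p ^ n = algebraMap k K a := by
    have h1 : ψ f1 ∈ 𝔫 := hI hf1
    have h2 : ψ f1 = ψ Polynomial.X ^ p ^ n - algebraMap K B (algebraMap k K a) := by
      simp only [f1, map_sub, map_pow, hψC]
    rw [h2] at h1
    have h3 : algebraMap K B (r ^ p ^ n - algebraMap k K a) ∈ 𝔫 := by
      have h4 : algebraMap K B (r ^ p ^ n - algebraMap k K a) =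
          (ψ Polynomial.X ^ p ^ n - algebraMap K B (algebraMap k K a)) -
          (ψ Polynomial.X ^ p ^ n - (algebraMap K B r) ^ p ^ n) := by
        rw [map_sub, map_pow]; ring
      rw [h4]
      refine 𝔫.sub_mem h1 ?_
      obtain ⟨q, hq⟩ := sub_dvd_pow_sub_pow (ψ Polynomial.X) (algebraMap K B r) (p ^ n)
      rw [hq]
      exact 𝔫.mul_mem_right _ hr
    by_contra hne
    have h5 : IsUnit (algebraMap K B (r ^ p ^ n - algebraMap k K a)) :=
      (IsUnit.mk0 _ (sub_ne_zero.2 hne)).map _
    exact (inferInstance : 𝔫.IsPrime).ne_top (Ideal.eq_top_of_isUnit_mem _ h3 h5)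
  have hdvd2 : f.map (algebraMap k K) ∣ (Polynomial.X - Polynomial.C r) ^ p ^ n := by
    have h1 := Polynomial.map_dvd (algebraMap k K) hdvd
    have h2 : f1.map (algebraMap k K) = (Polynomial.X - Polynomial.C r) ^ p ^ n := by
      rw [sub_pow_expChar_pow, ← Polynomial.C_pow, hr2]
      simp [f1]
    rwa [h2] at h1
  obtain ⟨i, hi, hassoc⟩ := (dvd_prime_pow (Polynomial.prime_X_sub_C r) _).1 hdvd2
  have hi3 : 3 ≤ i := by
    have h1 := Polynomial.natDegree_eq_of_degree_eq (Polynomial.degree_eq_degree_of_associated hassoc)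
    rw [Polynomial.natDegree_map, Polynomial.natDegree_pow, Polynomial.natDegree_X_sub_C, mul_one] at h1
    omega
  have hdvd3 : (Polynomial.X - Polynomial.C r) ^ 3 ∣ f.map (algebraMap k K) :=
    (pow_dvd_pow _ hi3).trans hassoc.symm.dvd
  have hψf : ψ f = 0 := by
    have h1 : ∀ q, ψ q = Polynomial.aeval (R := K) (ψ Polynomial.X) (q.map (algebraMap k K)) := by
      have : ψ = ((Polynomial.aeval (R := K) (ψ Polynomial.X)).toRingHom).comp (Polynomial.mapRingHom (algebraMap k K)) := by
        apply Polynomial.ringHom_ext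
        · intro c
          rw [hψC]; simp
        · simp
      intro q
      exact congr($this q)
    obtain ⟨q, hq⟩ := hdvd3
    rw [h1, hq, map_mul, map_pow]
    have h2 : (Polynomial.aeval (R := K) (ψ Polynomial.X)) (Polynomial.X - Polynomial.C r) = ψ Polynomial.X - algebraMap K B r := by
      simp
    rw [h2, hn _ hr, zero_mul]
  intro q hq
  rw [RingHom.mem_ker, hθ2] at hq
  obtain ⟨q', rfl⟩ := minpoly.dvd k ξ hq
  rw [RingHom.mem_ker, map_mul]
  change ψ f * _ = 0
  rw [hψf, zero_mul]

theorem surj_of_closedImm {R S : CommRingCat.{u}} (f : R ⟶ S) [IsClosedImmersion (Spec.map f)] :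
    Function.Surjective f.hom := by
  obtain ⟨-, h⟩ := IsClosedImmersion.isAffine_surjective_of_isAffine (Spec.map f)
  have h1 := Scheme.ΓSpecIso_inv_naturality f
  intro s
  obtain ⟨t, ht⟩ := h ((Scheme.ΓSpecIso S).inv.hom s)
  obtain ⟨r, hr⟩ := (ConcreteCategory.bijective_of_isIso (Scheme.ΓSpecIso R).inv).2 t
  refine ⟨r, ?_⟩
  apply (ConcreteCategory.bijective_of_isIso (Scheme.ΓSpecIso S).inv).1
  have h2 := congr($(h1).hom r)
  refine Eq.trans h2 ?_
  change (Spec.map f).appTop ((Scheme.ΓSpecIso R).inv r) = _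
  rw [hr, ht]

/-- `k → κ(pt)` is bijective for a point of `Spec k`. -/
theorem bijective_residue {k : Type u} [Field k] (y : Spec (CommRingCat.of k)) {τ : CommRingCat.of k ⟶ (Spec (CommRingCat.of k)).residueField y}
    (hτ : Spec.map τ = (Spec (CommRingCat.of k)).fromSpecResidueField y) : Function.Bijective τ.hom := by
  refine ⟨RingHom.injective _, ?_⟩
  have hy : IsClosed ({y} : Set (Spec (CommRingCat.of k))) := by
    have : Subsingleton (Spec (CommRingCat.of k)) := inferInstanceAs (Subsingleton (PrimeSpectrum k))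
    have : ({y} : Set (Spec (CommRingCat.of k))) = Set.univ := by
      ext z; simp [Subsingleton.elim z y]
    rw [this]
    exact isClosed_univ
  have h1 := isClosed_singleton_iff_isClosedImmersion.1 hy
  rw [← hτ] at h1
  exact surj_of_closedImm τ

theorem isClosed_pt {k : Type u} [Field k] (P : CohB1.ProjSpace 1 k)
    (hpi : ((CohB1.ProjSpace.toSpec 1 k).residueFieldMap P).hom.IsPurelyInseparable)
    (hdeg : letI := ((CohB1.ProjSpace.toSpec 1 k).residueFieldMap P).hom.toAlgebra
      3 ≤ Module.finrank ↑((Spec (CommRingCat.of k)).residueField ((CohB1.ProjSpace.toSpec 1 k) P)) ↑((CohB1.ProjSpace 1 k).residueField P)) :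
    IsClosed ({P} : Set (CohB1.ProjSpace 1 k)) := by
  -- algebra structures
  let y := (CohB1.ProjSpace.toSpec 1 k) P
  let κ := (CohB1.ProjSpace 1 k).residueField P
  let κ0 := (Spec (CommRingCat.of k)).residueField y
  obtain ⟨τ, hτ⟩ := Spec.map_surjective ((Spec (CommRingCat.of k)).fromSpecResidueField y)
  have hτb := bijective_residue y hτ
  let ρ : CommRingCat.of k ⟶ κ := τ ≫ (CohB1.ProjSpace.toSpec 1 k).residueFieldMap P
  have hρ : (CohB1.ProjSpace 1 k).fromSpecResidueField P ≫ CohB1.ProjSpace.toSpec 1 k = Spec.map ρ := by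
    rw [← Scheme.Hom.SpecMap_residueFieldMap_fromSpecResidueField, Spec.map_comp, hτ]
  let _ : Algebra κ0 κ := ((CohB1.ProjSpace.toSpec 1 k).residueFieldMap P).hom.toAlgebra
  let _ : Algebra k κ0 := τ.hom.toAlgebra
  let _ : Algebra k κ := ρ.hom.toAlgebra
  have hst : IsScalarTower k κ0 κ := IsScalarTower.of_algebraMap_eq fun c => rfl
  let eτ : k ≃ₐ[k] κ0 := AlgEquiv.ofBijective (Algebra.ofId k κ0) hτb
  have h1 : IsPurelyInseparable k κ0 := eτ.isPurelyInseparable
  have h2 : IsPurelyInseparable κ0 κ := hpi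
  have h3 : IsPurelyInseparable k κ := IsPurelyInseparable.trans k κ0 κ
  have h4 : 3 ≤ Module.finrank k κ := by
    have h5 : Module.finrank k κ0 = 1 := by
      rw [← eτ.toLinearEquiv.finrank_eq, Module.finrank_self]
    rw [← Module.finrank_mul_finrank k κ0 κ, h5, one_mul]
    exact hdeg
  have hfin : Module.Finite k κ := Module.finite_of_finrank_pos (by omega)
  -- P is closed
  have hlft : LocallyOfFiniteType ((CohB1.ProjSpace 1 k).fromSpecResidueField P) := by
    have h6 : LocallyOfFiniteType ((CohB1.ProjSpace 1 k).fromSpecResidueField P ≫ CohB1.ProjSpace.toSpec 1 k) := by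
      rw [hρ]
      rw [HasRingHomProperty.Spec_iff (P := @LocallyOfFiniteType)]
      exact (inferInstance : Algebra.FiniteType k κ)
    exact locallyOfFiniteType_of_comp _ (CohB1.ProjSpace.toSpec 1 k)
  have hJ : JacobsonSpace (CohB1.ProjSpace 1 k) := LocallyOfFiniteType.jacobsonSpace (CohB1.ProjSpace.toSpec 1 k)
  have hPc : IsClosed ({P} : Set (CohB1.ProjSpace 1 k)) := isClosed_singleton_iff_locallyOfFiniteType.2 hlft
  exact hPc

theorem exists_factor {k K : Type u} [Field k] [Field K] [Algebra k K] (P : CohB1.ProjSpace 1 k)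
    (hpi : ((CohB1.ProjSpace.toSpec 1 k).residueFieldMap P).hom.IsPurelyInseparable)
    (hdeg : letI := ((CohB1.ProjSpace.toSpec 1 k).residueFieldMap P).hom.toAlgebra
      3 ≤ Module.finrank ↑((Spec (CommRingCat.of k)).residueField ((CohB1.ProjSpace.toSpec 1 k) P)) ↑((CohB1.ProjSpace 1 k).residueField P))
    {B : Type u} [CommRing B] [Algebra K B] (𝔫 : Ideal B) [h𝔫 : 𝔫.IsPrime] (hn : ∀ b ∈ 𝔫, b ^ 3 = 0)
    (hB : ∀ b : B, ∃ r : K, b - algebraMap K B r ∈ 𝔫)
    (g : Spec (CommRingCat.of B) ⟶ CohB1.ProjSpace 1 k)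
    (hg : g ≫ CohB1.ProjSpace.toSpec 1 k = Spec.map (CommRingCat.ofHom ((algebraMap K B).comp (algebraMap k K))))
    (hgP : ∀ y, g y = P) : IsClosed ({P} : Set (CohB1.ProjSpace 1 k)) ∧
      ∃ w : Spec (CommRingCat.of B) ⟶ Spec ((CohB1.ProjSpace 1 k).residueField P),
      w ≫ (CohB1.ProjSpace 1 k).fromSpecResidueField P = g := by
  -- algebra structures
  let y := (CohB1.ProjSpace.toSpec 1 k) P
  let κ := (CohB1.ProjSpace 1 k).residueField P
  let κ0 := (Spec (CommRingCat.of k)).residueField y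
  obtain ⟨τ, hτ⟩ := Spec.map_surjective ((Spec (CommRingCat.of k)).fromSpecResidueField y)
  have hτb := bijective_residue y hτ
  let ρ : CommRingCat.of k ⟶ κ := τ ≫ (CohB1.ProjSpace.toSpec 1 k).residueFieldMap P
  have hρ : (CohB1.ProjSpace 1 k).fromSpecResidueField P ≫ CohB1.ProjSpace.toSpec 1 k = Spec.map ρ := by
    rw [← Scheme.Hom.SpecMap_residueFieldMap_fromSpecResidueField, Spec.map_comp, hτ]
  let _ : Algebra κ0 κ := ((CohB1.ProjSpace.toSpec 1 k).residueFieldMap P).hom.toAlgebra
  let _ : Algebra k κ0 := τ.hom.toAlgebra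
  let _ : Algebra k κ := ρ.hom.toAlgebra
  have hst : IsScalarTower k κ0 κ := IsScalarTower.of_algebraMap_eq fun c => rfl
  let eτ : k ≃ₐ[k] κ0 := AlgEquiv.ofBijective (Algebra.ofId k κ0) hτb
  have h1 : IsPurelyInseparable k κ0 := eτ.isPurelyInseparable
  have h2 : IsPurelyInseparable κ0 κ := hpi
  have h3 : IsPurelyInseparable k κ := IsPurelyInseparable.trans k κ0 κ
  have h4 : 3 ≤ Module.finrank k κ := by
    have h5 : Module.finrank k κ0 = 1 := by
      rw [← eτ.toLinearEquiv.finrank_eq, Module.finrank_self]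
    rw [← Module.finrank_mul_finrank k κ0 κ, h5, one_mul]
    exact hdeg
  have hfin : Module.Finite k κ := Module.finite_of_finrank_pos (by omega)
  -- P is closed
  have hlft : LocallyOfFiniteType ((CohB1.ProjSpace 1 k).fromSpecResidueField P) := by
    have h6 : LocallyOfFiniteType ((CohB1.ProjSpace 1 k).fromSpecResidueField P ≫ CohB1.ProjSpace.toSpec 1 k) := by
      rw [hρ]
      rw [HasRingHomProperty.Spec_iff (P := @LocallyOfFiniteType)]
      exact (inferInstance : Algebra.FiniteType k κ)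
    exact locallyOfFiniteType_of_comp _ (CohB1.ProjSpace.toSpec 1 k)
  have hJ : JacobsonSpace (CohB1.ProjSpace 1 k) := LocallyOfFiniteType.jacobsonSpace (CohB1.ProjSpace.toSpec 1 k)
  have hPc : IsClosed ({P} : Set (CohB1.ProjSpace 1 k)) := isClosed_singleton_iff_locallyOfFiniteType.2 hlft
  refine ⟨hPc, ?_⟩
  have hci : IsClosedImmersion ((CohB1.ProjSpace 1 k).fromSpecResidueField P) :=
    isClosed_singleton_iff_isClosedImmersion.1 hPc
  -- the chart
  obtain ⟨i, hi⟩ : ∃ i, P ∈ Set.range (ch k i) := by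
    by_cases h : P ∈ Set.range (ch k 0)
    · exact ⟨0, h⟩
    · rw [← Set.mem_compl_iff, compl_range_ch] at h
      rw [Set.mem_singleton_iff] at h
      exact ⟨0 + 1, orig k, h.symm⟩
  have hr1 : Set.range ((CohB1.ProjSpace 1 k).fromSpecResidueField P) ⊆ Set.range (ch k i) := by
    rw [Scheme.range_fromSpecResidueField]
    exact Set.singleton_subset_iff.2 hi
  have hr2 : Set.range g ⊆ Set.range (ch k i) := by
    rintro _ ⟨z, rfl⟩
    rw [hgP]
    exact hi
  obtain ⟨θ, hθ⟩ := Spec.map_surjective (IsOpenImmersion.lift (ch k i) _ hr1)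
  obtain ⟨ψ, hψ⟩ := Spec.map_surjective (IsOpenImmersion.lift (ch k i) _ hr2)
  have hθ2 : Spec.map θ ≫ ch k i = (CohB1.ProjSpace 1 k).fromSpecResidueField P := by
    rw [hθ]; exact IsOpenImmersion.lift_fac _ _ _
  have hψ2 : Spec.map ψ ≫ ch k i = g := by
    rw [hψ]; exact IsOpenImmersion.lift_fac _ _ _
  have hstr := ch_str k i
  have hθC : θ.hom.comp Polynomial.C = algebraMap k κ := by
    have h5 : CommRingCat.ofHom (Polynomial.C : k →+* Polynomial k) ≫ θ = ρ := by
      apply Spec.map_injective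
      rw [Spec.map_comp, ← hρ, ← hθ2, Category.assoc, ← hstr]
    exact congrArg CommRingCat.Hom.hom h5
  have hψC : ψ.hom.comp Polynomial.C = (algebraMap K B).comp (algebraMap k K) := by
    have h5 : CommRingCat.ofHom (Polynomial.C : k →+* Polynomial k) ≫ ψ =
        CommRingCat.ofHom ((algebraMap K B).comp (algebraMap k K)) := by
      apply Spec.map_injective
      rw [Spec.map_comp, ← hg, ← hψ2, Category.assoc, ← hstr]
    exact congrArg CommRingCat.Hom.hom h5
  have hθs : Function.Surjective θ.hom := by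
    have h5 : IsClosedImmersion (Spec.map θ ≫ ch k i) := by rw [hθ2]; exact hci
    have h6 : IsClosedImmersion (Spec.map θ) := IsClosedImmersion.of_comp (Spec.map θ) (ch k i)
    exact surj_of_closedImm θ
  have hI : RingHom.ker θ.hom ≤ Ideal.comap ψ.hom 𝔫 := by
    let z : Spec (CommRingCat.of B) := ⟨𝔫, h𝔫⟩
    have h5 : Spec.map ψ z = Spec.map θ (IsLocalRing.closedPoint κ) := by
      apply (ch k i).isOpenEmbedding.injective
      rw [← Scheme.Hom.comp_apply, ← Scheme.Hom.comp_apply, hψ2, hθ2, hgP]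
      exact (Scheme.fromSpecResidueField_apply _ _).symm
    have h6 := congrArg PrimeSpectrum.asIdeal h5
    change Ideal.comap ψ.hom 𝔫 = Ideal.comap θ.hom (IsLocalRing.maximalIdeal κ) at h6
    rw [h6]
    intro q hq
    rw [Ideal.mem_comap, RingHom.mem_ker.1 hq]
    exact zero_mem _
  have hker := ker_le_ker (k := k) (K := K) (κ := κ) (B := B) h4 𝔫 hn hB θ.hom hθC hθs ψ.hom hψC hI
  let ψ' : κ →+* B := RingHom.liftOfRightInverse θ.hom (Function.surjInv hθs) (Function.rightInverse_surjInv hθs)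
    ⟨ψ.hom, hker⟩
  have hψ' : ψ'.comp θ.hom = ψ.hom := by
    refine RingHom.ext fun q => ?_
    exact RingHom.liftOfRightInverse_comp_apply _ _ (Function.rightInverse_surjInv hθs) ⟨ψ.hom, hker⟩ q
  refine ⟨Spec.map (CommRingCat.ofHom ψ'), ?_⟩
  rw [← hθ2, ← hψ2, ← Category.assoc, ← Spec.map_comp]
  congr 2
  exact CommRingCat.hom_ext hψ'

end K403.P1Thick
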